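import Mathlib

/-!
Bridge for S3795 (Gross, `p = 2`): the shared interfaces.

* `FitTwo G s t`: there are `s`-invariant subgroups `N ≤ X ≤ G`, normalized by `G`, with `N` and
  `X / N` nilpotent and `[G, t] ≤ X`  (i.e. `[G, t] ≤ F₂(G)` in invariant form).
* `LinHyp2 n`: the linear theorem (L2) of `notes/S3795_plan.md`, as a hypothesis.
-/

set_option autoImplicit false

namespace Cfsg.Agent.Helper9.Gross2

universe u

/-- `[G, t] ≤ F₂(G)`, in invariant form inside an ambient group. -/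
def FitTwo {Γ : Type*} [Group Γ] (G : Subgroup Γ) (s t : Γ) : Prop :=
  ∃ N X : Subgroup Γ, N ≤ X ∧ X ≤ G ∧
    (∀ g ∈ G, ∀ x ∈ N, g * x * g⁻¹ ∈ N) ∧ (∀ g ∈ G, ∀ x ∈ X, g * x * g⁻¹ ∈ X) ∧
    (∀ x ∈ N, s * x * s⁻¹ ∈ N) ∧ (∀ x ∈ X, s * x * s⁻¹ ∈ X) ∧
    (∃ c : ℕ, N.lowerCentralSeries c = ⊥) ∧ (∃ c : ℕ, X.lowerCentralSeries c ≤ N) ∧
    ∀ g ∈ G, t * g * t⁻¹ * g⁻¹ ∈ X

/-- **The linear theorem (L2)**, as a hypothesis: `s ^ (2 ^ n) = 1`, `s` without fixed vectors on a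
module over an algebraically closed field of characteristic `r ≠ 2`, normalizing a solvable group
`H` of odd order acting faithfully with no non-trivial `s`-invariant normal `r`-subgroup, `s` fixing
only the identity of `H`, and `FitTwo` known for every `s`-invariant subgroup of `H`: then
`[H, t]` lies in a nilpotent `s`-invariant normal subgroup of `H`, `t = s ^ (2 ^ (n - 1))`. -/
def LinHyp2 (n : ℕ) : Prop :=
  ∀ (k : Type) [Field k] [IsAlgClosed k] (r : ℕ) [Fact r.Prime] [CharP k r]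
    (Γ : Type u) [Group Γ] [Finite Γ] (W : Type u) [AddCommGroup W] [Module k W]
    [Module.Finite k W] (ρ : Representation k Γ W) (s : Γ), s ^ (2 ^ n) = 1 →
    (∀ w : W, ρ s w = w → w = 0) →
    ∀ H : Subgroup Γ, s ∈ Subgroup.normalizer (H : Set Γ) →
    Group.IsSolvable H → (Nat.card H).Coprime 2 → r ≠ 2 →
    (∀ x ∈ H, s * x * s⁻¹ = x → x = 1) →
    (∀ x ∈ H, ρ x = 1 → x = 1) →
    (∀ P : Subgroup Γ, P ≤ H → (∀ g ∈ H, ∀ x ∈ P, g * x * g⁻¹ ∈ P) →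
      s ∈ Subgroup.normalizer (P : Set Γ) → IsPGroup r P → P = ⊥) →
    (∀ H₀ : Subgroup Γ, H₀ ≤ H → s ∈ Subgroup.normalizer (H₀ : Set Γ) →
      FitTwo H₀ s (s ^ (2 ^ (n - 1)))) →
    ∃ N : Subgroup Γ, N ≤ H ∧ (∀ g ∈ H, ∀ x ∈ N, g * x * g⁻¹ ∈ N) ∧
      (∀ x ∈ N, s * x * s⁻¹ ∈ N) ∧ (∃ c : ℕ, N.lowerCentralSeries c = ⊥) ∧
      ∀ x ∈ H, s ^ (2 ^ (n - 1)) * x * (s ^ (2 ^ (n - 1)))⁻¹ * x⁻¹ ∈ N

end Cfsg.Agent.Helper9.Gross2
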