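import Mathlib

/-!
S3795 (Gross, `p = 2`), step FIN of `notes/S3795_plan.md`: elementary facts on an elementary abelian
group `A` of order `q ^ 2` (lines = subgroups of order `q`).
-/

set_option autoImplicit false
set_option linter.style.haveILetI false

namespace Cfsg.Agent.Helper9.Gross2

section lines

variable {A : Type*} [CommGroup A] [Finite A] {q : ℕ}

/-- powers of an element of exponent `q` depend only on the exponent modulo `q`. -/
theorem pow_congr_zmod {g : A} (hg : g ^ q = 1) {n n' : ℕ} (h : (n : ZMod q) = (n' : ZMod q)) :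
    g ^ n = g ^ n' := by
  rw [ZMod.natCast_eq_natCast_iff'] at h
  rw [pow_eq_pow_mod n hg, pow_eq_pow_mod n' hg, h]

/-- a line is generated by any of its non-trivial elements. -/
theorem line_eq_zpowers [hq : Fact q.Prime] (hexp : ∀ a : A, a ^ q = 1) (L : Subgroup A)
    (hL : Nat.card L = q) (a : A) (ha : a ∈ L) (ha1 : a ≠ 1) : L = Subgroup.zpowers a := by
  symm
  apply Subgroup.eq_of_le_of_card_ge
  · rw [Subgroup.zpowers_le]; exact ha
  · rw [Nat.card_zpowers, orderOf_eq_prime (hexp a) ha1, hL]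

/-- a line contains a non-trivial element. -/
theorem exists_ne_one_of_line [hq : Fact q.Prime] (L : Subgroup A) (hL : Nat.card L = q) :
    ∃ a ∈ L, a ≠ 1 := by
  have h1 : L ≠ ⊥ := by
    intro h
    rw [h, Subgroup.card_bot] at hL
    exact hq.out.one_lt.ne hL
  obtain ⟨a, ha1⟩ := (Subgroup.ne_bot_iff_exists_ne_one).1 h1
  exact ⟨a, a.2, fun h => ha1 (Subtype.ext h)⟩

/-- every element of a line is a power (with natural exponent) of a generator. -/
theorem exists_pow_of_mem_line [hq : Fact q.Prime] (hexp : ∀ a : A, a ^ q = 1) (L : Subgroup A)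
    (hL : Nat.card L = q) (a : A) (ha : a ∈ L) (ha1 : a ≠ 1) (g : A) (hg : g ∈ L) :
    ∃ i : ℕ, a ^ i = g := by
  rw [line_eq_zpowers hexp L hL a ha ha1] at hg
  rw [← mem_powers_iff_mem_zpowers] at hg
  exact (Submonoid.mem_powers_iff _ _).1 hg

/-- distinct lines meet trivially. -/
theorem line_inf [hq : Fact q.Prime] (hexp : ∀ a : A, a ^ q = 1) (L L' : Subgroup A)
    (hL : Nat.card L = q) (hL' : Nat.card L' = q) (hne : L ≠ L') (g : A) (hg : g ∈ L)
    (hg' : g ∈ L') : g = 1 := by
  by_contra h1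
  apply hne
  rw [line_eq_zpowers hexp L hL g hg h1, line_eq_zpowers hexp L' hL' g hg' h1]

/-- distinct lines generate `A`. -/
theorem line_sup [hq : Fact q.Prime] (hcard : Nat.card A = q ^ 2) (L L' : Subgroup A)
    (hL : Nat.card L = q) (hL' : Nat.card L' = q) (hne : L ≠ L') (g : A) :
    ∃ y ∈ L, ∃ w ∈ L', y * w = g := by
  have h1 : L ⊔ L' = ⊤ := by
    apply Subgroup.eq_top_of_card_eq
    have hdvd : Nat.card ↥(L ⊔ L') ∣ q ^ 2 := by
      rw [← hcard]; exact Subgroup.card_subgroup_dvd_card _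
    obtain ⟨k, hk2, hk⟩ := (Nat.dvd_prime_pow hq.out).1 hdvd
    have hlt : q < Nat.card ↥(L ⊔ L') := by
      by_contra hle
      push Not at hle
      have h2 : L = L ⊔ L' := by
        apply Subgroup.eq_of_le_of_card_ge le_sup_left
        rw [hL]; exact hle
      have h3 : L' ≤ L := by rw [h2]; exact le_sup_right
      have h4 : L' = L := Subgroup.eq_of_le_of_card_ge h3 (by rw [hL, hL'])
      exact hne h4.symm
    rw [hk] at hlt ⊢
    rw [hcard]
    have hk1 : 1 < k := by
      have := (Nat.pow_lt_pow_iff_right hq.out.one_lt).1 (by rwa [pow_one] : q ^ 1 < q ^ k)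
      exact this
    have : k = 2 := by omega
    rw [this]
  have h2 : g ∈ L ⊔ L' := by rw [h1]; exact Subgroup.mem_top g
  exact Subgroup.mem_sup.1 h2

/-- the number of lines. -/
theorem card_lines [hq : Fact q.Prime] (hcard : Nat.card A = q ^ 2) (hexp : ∀ a : A, a ^ q = 1) :
    Nat.card {L : Subgroup A // Nat.card L = q} = q + 1 := by
  classical
  haveI : Fintype A := Fintype.ofFinite A
  haveI : Fintype (Subgroup A) := Fintype.ofFinite _
  obtain ⟨S, hS⟩ : ∃ S : Finset A, S = Finset.univ.erase 1 := ⟨_, rfl⟩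
  obtain ⟨T, hT⟩ : ∃ T : Finset (Subgroup A), T = Finset.univ.filter (fun L : Subgroup A => Nat.card L = q) :=
    ⟨_, rfl⟩
  have hScard : S.card = q ^ 2 - 1 := by
    rw [hS, Finset.card_erase_of_mem (Finset.mem_univ _), Finset.card_univ,
      ← Nat.card_eq_fintype_card, hcard]
  have hf : ∀ a ∈ S, Subgroup.zpowers a ∈ T := by
    intro a ha
    rw [hS, Finset.mem_erase] at ha
    rw [hT, Finset.mem_filter]
    exact ⟨Finset.mem_univ _, by rw [Nat.card_zpowers, orderOf_eq_prime (hexp a) ha.1]⟩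
  have h1 := Finset.card_eq_sum_card_fiberwise hf
  have h2 : ∀ L ∈ T, (S.filter (fun a => Subgroup.zpowers a = L)).card = q - 1 := by
    intro L hLT
    rw [hT, Finset.mem_filter] at hLT
    have hL := hLT.2
    have e : S.filter (fun a => Subgroup.zpowers a = L) =
        (Finset.univ.filter (fun a => a ∈ L)).erase 1 := by
      ext a
      rw [Finset.mem_filter, hS, Finset.mem_erase, Finset.mem_erase, Finset.mem_filter]
      constructor
      · rintro ⟨⟨h1, _⟩, h2⟩
        exact ⟨h1, Finset.mem_univ _, by rw [← h2]; exact Subgroup.mem_zpowers a⟩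
      · rintro ⟨h1, _, h2⟩
        exact ⟨⟨h1, Finset.mem_univ _⟩, (line_eq_zpowers hexp L hL a h2 h1).symm⟩
    rw [e, Finset.card_erase_of_mem (by
      rw [Finset.mem_filter]; exact ⟨Finset.mem_univ _, L.one_mem⟩)]
    have : (Finset.univ.filter (fun a => a ∈ L)).card = Nat.card L := by
      rw [Nat.card_eq_fintype_card, Fintype.card_subtype]
    rw [this, hL]
  rw [Finset.sum_congr rfl h2, Finset.sum_const, smul_eq_mul, hScard] at h1
  have hTcard : Nat.card {L : Subgroup A // Nat.card L = q} = T.card := by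
    rw [Nat.card_eq_fintype_card, Fintype.card_subtype, hT]
  rw [hTcard]
  have hq2 : 2 ≤ q := hq.out.two_le
  have h3 : q ^ 2 - 1 = (q + 1) * (q - 1) := by
    obtain ⟨r, rfl⟩ : ∃ r, q = r + 1 := ⟨q - 1, by omega⟩
    rw [Nat.add_sub_cancel]
    have : (r + 1) ^ 2 = (r + 1 + 1) * r + 1 := by ring
    rw [this, Nat.add_sub_cancel]
  rw [h3] at h1
  exact (Nat.eq_of_mul_eq_mul_right (by omega) h1).symm

end lines

end Cfsg.Agent.Helper9.Gross2
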