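import Mathlib
import Cfsg.Agent.Helper9.Gross2.FinA

/-!
S3795 (Gross, `p = 2`), step FIN of `notes/S3795_plan.md`: automorphisms of an elementary abelian
group `A` of order `q ^ 2` acting on lines.
-/

set_option autoImplicit false
set_option linter.style.haveILetI false

namespace Cfsg.Agent.Helper9.Gross2

section auts

variable {A : Type*} [CommGroup A] [Finite A] {q : ℕ}

/-- the image of a line under an automorphism is a line. -/
theorem card_map_aut (u : MulAut A) (L : Subgroup A) :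
    Nat.card (L.map u.toMonoidHom) = Nat.card L :=
  Subgroup.card_map_of_injective (f := u.toMonoidHom) u.injective

/-- the action of a group of automorphisms on the set of lines. -/
def lineAction (Zb : Subgroup (MulAut A)) (q : ℕ) :
    MulAction ↥Zb {L : Subgroup A // Nat.card L = q} where
  smul u L := ⟨L.1.map (u : MulAut A).toMonoidHom, by rw [card_map_aut]; exact L.2⟩
  one_smul := by
    rintro ⟨L, hL⟩
    apply Subtype.ext
    change L.map ((1 : MulAut A).toMonoidHom) = L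
    have : (1 : MulAut A).toMonoidHom = MonoidHom.id A := rfl
    rw [this, Subgroup.map_id]
  mul_smul := by
    rintro u v ⟨L, hL⟩
    apply Subtype.ext
    change L.map ((u : MulAut A) * (v : MulAut A)).toMonoidHom =
      (L.map (v : MulAut A).toMonoidHom).map (u : MulAut A).toMonoidHom
    rw [Subgroup.map_map]
    rfl

/-- a `q'`-group of automorphisms, `q'` odd, fixes a line when `q + 1` is a power of `2`. -/
theorem exists_fixed_line [hq : Fact q.Prime] (hcard : Nat.card A = q ^ 2)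
    (hexp : ∀ a : A, a ^ q = 1) {e' : ℕ} (hq1 : q + 1 = 2 ^ e')
    (Zb : Subgroup (MulAut A)) (q' : ℕ) [hq' : Fact q'.Prime] (hq'2 : q' ≠ 2)
    (hZp : IsPGroup q' Zb) :
    ∃ L : Subgroup A, Nat.card L = q ∧ ∀ u ∈ Zb, L.map (u : MulAut A).toMonoidHom = L := by
  classical
  letI := lineAction Zb q
  have hnd : ¬ q' ∣ Nat.card {L : Subgroup A // Nat.card L = q} := by
    rw [card_lines hcard hexp, hq1]
    intro h
    have := (Nat.prime_dvd_prime_iff_eq hq'.out Nat.prime_two).1 (hq'.out.dvd_of_dvd_pow h)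
    exact hq'2 this
  obtain ⟨⟨L, hL⟩, hfix⟩ := hZp.nonempty_fixed_point_of_prime_not_dvd_card _ hnd
  refine ⟨L, hL, ?_⟩
  intro u hu
  have := hfix ⟨u, hu⟩
  exact congrArg Subtype.val this

/-- an automorphism stabilizing a line acts on it as a power map. -/
theorem exists_scalar [hq : Fact q.Prime] (hexp : ∀ a : A, a ^ q = 1) (L : Subgroup A)
    (hL : Nat.card L = q) (u : MulAut A) (hu : L.map u.toMonoidHom = L) :
    ∃ c : ℕ, ∀ g ∈ L, u g = g ^ c := by
  obtain ⟨a, ha, ha1⟩ := exists_ne_one_of_line L hL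
  have hua : u a ∈ L := by
    rw [← hu]; exact ⟨a, ha, rfl⟩
  obtain ⟨c, hc⟩ := exists_pow_of_mem_line hexp L hL a ha ha1 (u a) hua
  refine ⟨c, ?_⟩
  intro g hg
  obtain ⟨i, rfl⟩ := exists_pow_of_mem_line hexp L hL a ha ha1 g hg
  rw [map_pow, ← hc, ← pow_mul, ← pow_mul, mul_comm]

/-- iterating a power map. -/
theorem scalar_pow (L : Subgroup A) (u : MulAut A) (c : ℕ) (hc : ∀ g ∈ L, u g = g ^ c) (n : ℕ) :
    ∀ g ∈ L, (u ^ n) g = g ^ (c ^ n) := by
  induction n with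
  | zero => intro g _; simp
  | succ n ih =>
    intro g hg
    rw [pow_succ', MulAut.mul_apply, ih g hg, hc _ (L.pow_mem hg _), ← pow_mul, ← pow_succ]

/-- the scalar of an automorphism on a line is invertible modulo `q`. -/
theorem scalar_ne_zero [hq : Fact q.Prime] (hexp : ∀ a : A, a ^ q = 1) (L : Subgroup A)
    (hL : Nat.card L = q) (u : MulAut A) (c : ℕ) (hc : ∀ g ∈ L, u g = g ^ c) :
    (c : ZMod q) ≠ 0 := by
  intro h0
  obtain ⟨a, ha, ha1⟩ := exists_ne_one_of_line L hL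
  apply ha1
  have h1 : a ^ c = a ^ 0 := pow_congr_zmod (hexp a) (by rw [h0, Nat.cast_zero])
  rw [pow_zero, ← hc a ha] at h1
  exact (map_eq_one_iff u u.injective).1 h1

/-- Fermat: `u ^ (q - 1)` is trivial on a line stabilized by `u`. -/
theorem pow_pred_trivial [hq : Fact q.Prime] (hexp : ∀ a : A, a ^ q = 1) (L : Subgroup A)
    (hL : Nat.card L = q) (u : MulAut A) (hu : L.map u.toMonoidHom = L) :
    ∀ g ∈ L, (u ^ (q - 1)) g = g := by
  obtain ⟨c, hc⟩ := exists_scalar hexp L hL u hu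
  intro g hg
  rw [scalar_pow L u c hc (q - 1) g hg]
  have h1 : ((c ^ (q - 1) : ℕ) : ZMod q) = ((1 : ℕ) : ZMod q) := by
    rw [Nat.cast_pow, Nat.cast_one]
    exact ZMod.pow_card_sub_one_eq_one (scalar_ne_zero hexp L hL u c hc)
  rw [pow_congr_zmod (hexp g) h1, pow_one]

/-- the `2`-part of `(ℤ/q)ˣ` has order `2` when `q + 1 = 2 ^ e'`, `e' ≥ 2`: no automorphism
stabilizing a line has a `2 ^ j`-th power (`j ≥ 1`) inverting the line. -/
theorem no_invert_of_stab [hq : Fact q.Prime] (hexp : ∀ a : A, a ^ q = 1) {e' : ℕ}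
    (hq1 : q + 1 = 2 ^ e') (he' : 2 ≤ e') (L : Subgroup A) (hL : Nat.card L = q) (y : MulAut A)
    (hy : L.map y.toMonoidHom = L) (j : ℕ) (hj : 1 ≤ j)
    (hinv : ∀ g ∈ L, (y ^ (2 ^ j)) g = g⁻¹) : False := by
  obtain ⟨c, hc⟩ := exists_scalar hexp L hL y hy
  obtain ⟨a, ha, ha1⟩ := exists_ne_one_of_line L hL
  have hC0 := scalar_ne_zero hexp L hL y c hc
  -- `c ^ (2 ^ j) = -1` in `ZMod q`
  have h1 : a ^ (c ^ (2 ^ j) + 1) = 1 := by
    rw [pow_succ, ← scalar_pow L y c hc (2 ^ j) a ha, hinv a ha, inv_mul_cancel]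
  have h2 : q ∣ c ^ (2 ^ j) + 1 := by
    have := orderOf_dvd_of_pow_eq_one h1
    rwa [orderOf_eq_prime (hexp a) ha1] at this
  have h3 : (c : ZMod q) ^ (2 ^ j) = -1 := by
    have := (ZMod.natCast_eq_zero_iff _ _).2 h2
    rw [Nat.cast_add, Nat.cast_pow, Nat.cast_one] at this
    exact eq_neg_of_add_eq_zero_left this
  -- `q - 1 = 2 * m'`, `m'` odd
  obtain ⟨f, hf⟩ : ∃ f, e' = f + 2 := ⟨e' - 2, by omega⟩
  obtain ⟨m', hm'⟩ : ∃ m', m' = 2 ^ (f + 1) - 1 := ⟨_, rfl⟩
  have hpos : 1 ≤ 2 ^ (f + 1) := Nat.one_le_two_pow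
  have hqm : q - 1 = 2 * m' := by
    have : 2 ^ e' = 2 * 2 ^ (f + 1) := by rw [hf, pow_succ]; ring
    omega
  have hm'odd : Odd m' := by
    have : 2 ^ (f + 1) = 2 * 2 ^ f := by rw [pow_succ]; ring
    exact ⟨2 ^ f - 1, by have := Nat.one_le_two_pow (n := f); omega⟩
  obtain ⟨j', rfl⟩ : ∃ j', j = j' + 1 := ⟨j - 1, by omega⟩
  have h4 : ((c : ZMod q) ^ (2 ^ (j' + 1))) ^ m' = 1 := by
    rw [← pow_mul]
    have : 2 ^ (j' + 1) * m' = (q - 1) * 2 ^ j' := by rw [hqm, pow_succ]; ring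
    rw [this, pow_mul, ZMod.pow_card_sub_one_eq_one hC0, one_pow]
  rw [h3, hm'odd.neg_one_pow] at h4
  -- `-1 = 1` in `ZMod q`
  have h5 : ((2 : ℕ) : ZMod q) = 0 := by
    have h : (-1 : ZMod q) + 1 = 0 := by ring
    rw [h4] at h
    rw [Nat.cast_ofNat, ← h]; ring
  have h6 := (ZMod.natCast_eq_zero_iff _ _).1 h5
  have h7 : q ≤ 2 := Nat.le_of_dvd (by norm_num) h6
  have h8 : 4 ≤ 2 ^ e' := by
    calc 4 = 2 ^ 2 := by norm_num
      _ ≤ 2 ^ e' := Nat.pow_le_pow_right (by norm_num) he'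
  omega

end auts

end Cfsg.Agent.Helper9.Gross2
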