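import Mathlib
import Cfsg.Agent.Helper9.Gross2.FinB

/-!
S3795 (Gross, `p = 2`), step FIN of `notes/S3795_plan.md`: a `q'`-group (`q'` odd) of isometries of
a non-degenerate bimultiplicative form on an elementary abelian group of order `q ^ 2`,
`q + 1 = 2 ^ e'`, normalized by an automorphism `x` with `x ^ (2 ^ (e - 1))` the inversion
(`e' ≤ e`), is trivial.
-/

set_option autoImplicit false
set_option linter.style.haveILetI false
set_option linter.unusedSectionVars false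

namespace Cfsg.Agent.Helper9.Gross2

section fin

variable {A : Type*} [CommGroup A] [Finite A] {q : ℕ}

/-- an automorphism stabilizing three distinct lines is a power map. -/
theorem scalar_of_three_lines [hq : Fact q.Prime] (hcard : Nat.card A = q ^ 2)
    (hexp : ∀ a : A, a ^ q = 1) (L₀ L₁ L₂ : Subgroup A) (h0 : Nat.card L₀ = q)
    (h1 : Nat.card L₁ = q) (h2 : Nat.card L₂ = q) (h01 : L₀ ≠ L₁) (h02 : L₀ ≠ L₂)
    (h12 : L₁ ≠ L₂) (u : MulAut A) (hu0 : L₀.map u.toMonoidHom = L₀)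
    (hu1 : L₁.map u.toMonoidHom = L₁) (hu2 : L₂.map u.toMonoidHom = L₂) :
    ∃ c : ℕ, ∀ g : A, u g = g ^ c := by
  obtain ⟨c₀, hc₀⟩ := exists_scalar hexp L₀ h0 u hu0
  obtain ⟨c₁, hc₁⟩ := exists_scalar hexp L₁ h1 u hu1
  obtain ⟨c₂, hc₂⟩ := exists_scalar hexp L₂ h2 u hu2
  obtain ⟨a₂, ha₂, ha₂1⟩ := exists_ne_one_of_line L₂ h2
  obtain ⟨y, hy, w, hw, hyw⟩ := line_sup hcard L₀ L₁ h0 h1 h01 a₂
  have hy1 : y ≠ 1 := by
    intro h
    rw [h, one_mul] at hyw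
    apply ha₂1
    exact line_inf hexp L₁ L₂ h1 h2 h12 a₂ (hyw ▸ hw) ha₂
  have hw1 : w ≠ 1 := by
    intro h
    rw [h, mul_one] at hyw
    apply ha₂1
    exact line_inf hexp L₀ L₂ h0 h2 h02 a₂ (hyw ▸ hy) ha₂
  -- compare the two expressions of `u a₂`
  have e1 : y ^ c₀ * w ^ c₁ = y ^ c₂ * w ^ c₂ := by
    rw [← hc₀ y hy, ← hc₁ w hw, ← map_mul, hyw, hc₂ a₂ ha₂, ← hyw, mul_pow]
  have e2 : y ^ c₀ * (y ^ c₂)⁻¹ = w ^ c₂ * (w ^ c₁)⁻¹ := by
    have h : y ^ c₀ * w ^ c₁ * ((y ^ c₂)⁻¹ * (w ^ c₁)⁻¹) =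
        y ^ c₂ * w ^ c₂ * ((y ^ c₂)⁻¹ * (w ^ c₁)⁻¹) := by rw [e1]
    have l : y ^ c₀ * w ^ c₁ * ((y ^ c₂)⁻¹ * (w ^ c₁)⁻¹) = y ^ c₀ * (y ^ c₂)⁻¹ := by
      rw [mul_mul_mul_comm, mul_inv_cancel, mul_one]
    have r : y ^ c₂ * w ^ c₂ * ((y ^ c₂)⁻¹ * (w ^ c₁)⁻¹) = w ^ c₂ * (w ^ c₁)⁻¹ := by
      rw [mul_mul_mul_comm, mul_inv_cancel, one_mul]
    rw [l, r] at h
    exact h
  have e3 : y ^ c₀ * (y ^ c₂)⁻¹ = 1 :=
    line_inf hexp L₀ L₁ h0 h1 h01 _ (L₀.mul_mem (L₀.pow_mem hy _) (L₀.inv_mem (L₀.pow_mem hy _)))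
      (by rw [e2]; exact L₁.mul_mem (L₁.pow_mem hw _) (L₁.inv_mem (L₁.pow_mem hw _)))
  have e4 : w ^ c₂ * (w ^ c₁)⁻¹ = 1 := by rw [← e2]; exact e3
  have hy' : y ^ c₀ = y ^ c₂ := mul_inv_eq_one.1 e3
  have hw' : w ^ c₂ = w ^ c₁ := mul_inv_eq_one.1 e4
  have hL₀ : ∀ g ∈ L₀, u g = g ^ c₂ := by
    intro g hg
    obtain ⟨i, rfl⟩ := exists_pow_of_mem_line hexp L₀ h0 y hy hy1 g hg
    rw [hc₀ _ (L₀.pow_mem hy _), ← pow_mul, mul_comm, pow_mul, hy', ← pow_mul, mul_comm, pow_mul]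
  have hL₁ : ∀ g ∈ L₁, u g = g ^ c₂ := by
    intro g hg
    obtain ⟨i, rfl⟩ := exists_pow_of_mem_line hexp L₁ h1 w hw hw1 g hg
    rw [hc₁ _ (L₁.pow_mem hw _), ← pow_mul, mul_comm, pow_mul, ← hw', ← pow_mul, mul_comm,
      pow_mul]
  refine ⟨c₂, ?_⟩
  intro g
  obtain ⟨y', hy', w', hw', rfl⟩ := line_sup hcard L₀ L₁ h0 h1 h01 g
  rw [map_mul, hL₀ y' hy', hL₁ w' hw', mul_pow]

variable {C : Type*} [CommGroup C]

theorem form_one_left (β : A → A → C) (hβl : ∀ a b c, β (a * b) c = β a c * β b c) (b : A) :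
    β 1 b = 1 := by
  have := hβl 1 1 b
  rw [one_mul] at this
  exact (mul_eq_left.1 this.symm)

theorem form_pow_left (β : A → A → C) (hβl : ∀ a b c, β (a * b) c = β a c * β b c) (a b : A)
    (n : ℕ) : β (a ^ n) b = β a b ^ n := by
  induction n with
  | zero => rw [pow_zero, pow_zero, form_one_left β hβl]
  | succ n ih => rw [pow_succ, hβl, ih, pow_succ]

theorem form_one_right (β : A → A → C) (hβr : ∀ a b c, β a (b * c) = β a b * β a c) (a : A) :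
    β a 1 = 1 := by
  have := hβr a 1 1
  rw [one_mul] at this
  exact (mul_eq_left.1 this.symm)

theorem form_pow_right (β : A → A → C) (hβr : ∀ a b c, β a (b * c) = β a b * β a c) (a b : A)
    (n : ℕ) : β a (b ^ n) = β a b ^ n := by
  induction n with
  | zero => rw [pow_zero, pow_zero, form_one_right β hβr]
  | succ n ih => rw [pow_succ, hβr, ih, pow_succ]

theorem form_inv_left (β : A → A → C) (hβl : ∀ a b c, β (a * b) c = β a c * β b c) (a b : A) :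
    β a⁻¹ b = (β a b)⁻¹ := by
  have := hβl a a⁻¹ b
  rw [mul_inv_cancel, form_one_left β hβl] at this
  exact (eq_inv_of_mul_eq_one_right this.symm)

/-- an isometry which is a power map is an involution. -/
theorem sq_eq_one_of_scalar (β : A → A → C) (hβl : ∀ a b c, β (a * b) c = β a c * β b c)
    (hβr : ∀ a b c, β a (b * c) = β a b * β a c) (hβn : ∀ a, (∀ b, β a b = 1) → a = 1)
    (u : MulAut A) (c : ℕ) (hc : ∀ g : A, u g = g ^ c) (hu : ∀ a b, β (u a) (u b) = β a b) :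
    u * u = 1 := by
  ext a
  rw [MulAut.mul_apply, MulAut.one_apply, hc, hc, ← pow_mul]
  have h1 : a ^ (c * c) * a⁻¹ = 1 := by
    apply hβn
    intro b
    rw [hβl, form_inv_left β hβl, form_pow_left β hβl, pow_mul, ← form_pow_left β hβl,
      ← form_pow_right β hβr, ← hc, ← hc, hu, mul_inv_cancel]
  exact mul_inv_eq_one.1 h1

/-- an element of odd prime-power order which is an involution is trivial. -/
theorem eq_one_of_sq_eq_one (Zb : Subgroup (MulAut A)) (q' : ℕ) [hq' : Fact q'.Prime]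
    (hq'2 : q' ≠ 2) (hZp : IsPGroup q' Zb) (u : MulAut A) (hu : u ∈ Zb) (h2 : u * u = 1) :
    u = 1 := by
  obtain ⟨k, hk⟩ := hZp ⟨u, hu⟩
  have hk' : u ^ (q' ^ k) = 1 := by
    have := congrArg Subtype.val hk
    rwa [Subgroup.coe_pow, Subgroup.coe_one] at this
  have hodd : Odd (q' ^ k) := (hq'.out.odd_of_ne_two hq'2).pow
  obtain ⟨m, hm⟩ := hodd
  rw [hm, pow_succ, pow_mul, sq, h2, one_pow, one_mul] at hk'
  exact hk'

set_option maxHeartbeats 1000000 in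
/-- **FIN**. -/
theorem fin_mersenne (q e' e : ℕ) (hq : q.Prime) (hq1 : q + 1 = 2 ^ e') (hee : e' ≤ e)
    (hcard : Nat.card A = q ^ 2) (hexp : ∀ a : A, a ^ q = 1)
    (β : A → A → C) (hβl : ∀ a b c, β (a * b) c = β a c * β b c)
    (hβr : ∀ a b c, β a (b * c) = β a b * β a c) (hβn : ∀ a, (∀ b, β a b = 1) → a = 1)
    (x : MulAut A) (hx : x ^ (2 ^ e) = 1) (ht : ∀ a, (x ^ (2 ^ (e - 1))) a = a⁻¹)
    (Zb : Subgroup (MulAut A)) (q' : ℕ) [hq' : Fact q'.Prime] (hq'2 : q' ≠ 2)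
    (hZp : IsPGroup q' Zb) (hZβ : ∀ u ∈ Zb, ∀ a b, β (u a) (u b) = β a b)
    (hxZ : ∀ u ∈ Zb, x * u * x⁻¹ ∈ Zb) : Zb = ⊥ := by
  classical
  haveI : Fact q.Prime := ⟨hq⟩
  have hq2 : 2 ≤ q := hq.two_le
  have he'2 : 2 ≤ e' := by
    by_contra hlt
    push Not at hlt
    have : 2 ^ e' ≤ 2 ^ 1 := Nat.pow_le_pow_right (by norm_num) (by omega)
    omega
  have he2 : 2 ≤ e := he'2.trans hee
  -- conjugation by powers of `x`, and by `x⁻¹`
  have hxZpow : ∀ k : ℕ, ∀ u ∈ Zb, x ^ k * u * (x ^ k)⁻¹ ∈ Zb := by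
    intro k
    induction k with
    | zero => intro u hu; simpa using hu
    | succ k ih =>
      intro u hu
      have : x ^ (k + 1) * u * (x ^ (k + 1))⁻¹ = x * (x ^ k * u * (x ^ k)⁻¹) * x⁻¹ := by
        rw [pow_succ']; group
      rw [this]
      exact hxZ _ (ih u hu)
  have hxinv : x⁻¹ = x ^ (2 ^ e - 1) := by
    apply inv_eq_of_mul_eq_one_right
    rw [← pow_succ']
    have : 2 ^ e - 1 + 1 = 2 ^ e := Nat.sub_add_cancel Nat.one_le_two_pow
    rw [this, hx]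
  have hxZinv : ∀ u ∈ Zb, x⁻¹ * u * x ∈ Zb := by
    intro u hu
    have := hxZpow (2 ^ e - 1) u hu
    rwa [← hxinv, inv_inv] at this
  -- invariance of the translates of an invariant line
  have hinv_map : ∀ L : Subgroup A, (∀ u ∈ Zb, L.map (u : MulAut A).toMonoidHom = L) →
      ∀ u ∈ Zb, (L.map x.toMonoidHom).map (u : MulAut A).toMonoidHom = L.map x.toMonoidHom := by
    intro L hL u hu
    have h1 : (u : MulAut A).toMonoidHom.comp x.toMonoidHom =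
        x.toMonoidHom.comp (x⁻¹ * u * x : MulAut A).toMonoidHom := by
      ext a
      change u (x a) = x ((x⁻¹ * u * x) a)
      rw [MulAut.mul_apply, MulAut.mul_apply, MulAut.apply_inv_self]
    rw [Subgroup.map_map, h1, ← Subgroup.map_map, hL _ (hxZinv u hu)]
  obtain ⟨L₀, h0, hZ0⟩ := exists_fixed_line hcard hexp hq1 Zb q' hq'2 hZp
  obtain ⟨L₁, hL₁⟩ : ∃ L₁ : Subgroup A, L₁ = L₀.map x.toMonoidHom := ⟨_, rfl⟩
  obtain ⟨L₂, hL₂⟩ : ∃ L₂ : Subgroup A, L₂ = L₁.map x.toMonoidHom := ⟨_, rfl⟩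
  have h1 : Nat.card L₁ = q := by rw [hL₁, card_map_aut]; exact h0
  have h2 : Nat.card L₂ = q := by rw [hL₂, card_map_aut]; exact h1
  have hZ1 : ∀ u ∈ Zb, L₁.map (u : MulAut A).toMonoidHom = L₁ := by
    rw [hL₁]; exact hinv_map L₀ hZ0
  have hZ2 : ∀ u ∈ Zb, L₂.map (u : MulAut A).toMonoidHom = L₂ := by
    rw [hL₂]; exact hinv_map L₁ hZ1
  -- `x` does not stabilize a line
  have hnostab : ∀ L : Subgroup A, Nat.card L = q → L.map x.toMonoidHom ≠ L := by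
    intro L hL hstab
    have he1 : 1 ≤ e - 1 := by omega
    exact no_invert_of_stab hexp hq1 he'2 L hL x hstab (e - 1) he1 (fun g _ => ht g)
  have h01 : L₀ ≠ L₁ := by
    intro h
    apply hnostab L₀ h0
    rw [← hL₁]; exact h.symm
  have h12 : L₁ ≠ L₂ := by
    intro h
    apply hnostab L₁ h1
    rw [← hL₂]; exact h.symm
  rw [eq_bot_iff]
  intro z hz
  rw [Subgroup.mem_bot]
  apply eq_one_of_sq_eq_one Zb q' hq'2 hZp z hz
  by_cases h02 : L₀ = L₂
  · -- `x * x` stabilizes `L₀`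
    have hxx : L₀.map (x * x).toMonoidHom = L₀ := by
      have : (x * x).toMonoidHom = x.toMonoidHom.comp x.toMonoidHom := rfl
      rw [this, ← Subgroup.map_map, ← hL₁, ← hL₂]
      exact h02.symm
    have he_le : e ≤ 2 := by
      by_contra hgt
      push Not at hgt
      have he1 : 1 ≤ e - 2 := by omega
      apply no_invert_of_stab hexp hq1 he'2 L₀ h0 (x * x) hxx (e - 2) he1
      intro g _
      have : (x * x) ^ (2 ^ (e - 2)) = x ^ (2 ^ (e - 1)) := by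
        rw [← sq, ← pow_mul, ← pow_succ']
        congr 2
        omega
      rw [this]; exact ht g
    have he'eq : e' = 2 := by omega
    have hq3 : q = 3 := by
      rw [he'eq] at hq1
      omega
    -- `z * z` is trivial on `L₀` and on `L₁`
    have hz0 := pow_pred_trivial hexp L₀ h0 z (hZ0 z hz)
    have hz1 := pow_pred_trivial hexp L₁ h1 z (hZ1 z hz)
    have hq12 : q - 1 = 2 := by omega
    rw [hq12, sq] at hz0 hz1
    ext g
    obtain ⟨y, hy, w, hw, rfl⟩ := line_sup hcard L₀ L₁ h0 h1 h01 g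
    rw [map_mul, hz0 y hy, hz1 w hw, MulAut.one_apply]
  · obtain ⟨c, hc⟩ := scalar_of_three_lines hcard hexp L₀ L₁ L₂ h0 h1 h2 h01 h02 h12 z
      (hZ0 z hz) (hZ1 z hz) (hZ2 z hz)
    exact sq_eq_one_of_scalar β hβl hβr hβn z c hc (hZβ z hz)

end fin

/-- a Mersenne number which is a prime power is a prime. -/
theorem mersenne_exp_one {q e' m : ℕ} (hq : q.Prime) (h : 2 ^ e' - 1 = q ^ m)
    (h2 : 2 ≤ 2 ^ e' - 1) : m = 1 := by
  have he' : 2 ≤ e' := by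
    by_contra hlt
    push Not at hlt
    have : 2 ^ e' ≤ 2 ^ 1 := Nat.pow_le_pow_right (by norm_num) (by omega)
    omega
  have hpow : 2 ^ e' = q ^ m + 1 := by omega
  have hm0 : m ≠ 0 := by
    intro h0
    rw [h0, pow_zero] at h
    omega
  have hqodd : Odd q := by
    rcases hq.eq_two_or_odd' with h2q | hodd
    · exfalso
      have h4 : 2 ∣ 2 ^ e' := dvd_pow_self 2 (by omega)
      have h5 : 2 ∣ q ^ m := by rw [h2q]; exact dvd_pow_self 2 hm0
      omega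
    · exact hodd
  have h4 : 4 ∣ 2 ^ e' := by
    obtain ⟨f, rfl⟩ : ∃ f, e' = f + 2 := ⟨e' - 2, by omega⟩
    exact ⟨2 ^ f, by rw [pow_add]; ring⟩
  rcases Nat.even_or_odd m with hev | hodd
  · -- `q ^ m ≡ 1 mod 4`
    exfalso
    obtain ⟨r, hr⟩ := hev
    obtain ⟨s, hs⟩ := hqodd
    have h5 : q ^ m % 4 = 1 := by
      have : q ^ m = (q ^ 2) ^ r := by rw [← pow_mul, hr]; congr 1; ring
      rw [this, Nat.pow_mod]
      have h6 : q ^ 2 % 4 = 1 := by
        rw [hs]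
        have : (2 * s + 1) ^ 2 = 4 * (s * s + s) + 1 := by ring
        rw [this]; omega
      rw [h6, one_pow]
      rfl
    omega
  · -- `q + 1` divides `q ^ m + 1 = 2 ^ e'`, so `q + 1 = 2 ^ j`
    by_contra hm1
    have hdvd : q + 1 ∣ q ^ m + 1 := by
      have := hodd.nat_add_dvd_pow_add_pow q 1
      rwa [one_pow] at this
    rw [← hpow] at hdvd
    obtain ⟨j, hj2, hj⟩ := (Nat.dvd_prime_pow Nat.prime_two).1 hdvd
    have hm3 : 3 ≤ m := by
      obtain ⟨r, hr⟩ := hodd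
      omega
    have hlt : j < e' := by
      by_contra hge
      push Not at hge
      have h7 : 2 ^ e' ≤ 2 ^ j := Nat.pow_le_pow_right (by norm_num) hge
      have h8 : q ^ 1 < q ^ m := Nat.pow_lt_pow_right hq.one_lt (by omega)
      rw [pow_one] at h8
      omega
    have hj1 : 1 ≤ j := by
      by_contra hlt0
      push Not at hlt0
      have : j = 0 := by omega
      rw [this, pow_zero] at hj
      have := hq.two_le
      omega
    -- `(Q - 1) ^ (2 r + 1) = -1 + (2 r + 1) Q + k Q ^ 2`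
    have key : ∀ (Q : ℤ) (r : ℕ), ∃ k : ℤ,
        (Q - 1) ^ (2 * r + 1) = -1 + (2 * (r : ℤ) + 1) * Q + k * Q ^ 2 := by
      intro Q r
      induction r with
      | zero => exact ⟨0, by push_cast; ring⟩
      | succ r ih =>
        obtain ⟨k, hk⟩ := ih
        refine ⟨-1 - 2 * (2 * (r : ℤ) + 1) + (2 * (r : ℤ) + 1) * Q + k * (1 - 2 * Q + Q ^ 2), ?_⟩
        have e1 : 2 * (r + 1) + 1 = (2 * r + 1) + 2 := by ring
        rw [e1, pow_add, hk]
        push_cast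
        ring
    obtain ⟨r, hr⟩ := hodd
    obtain ⟨k, hk⟩ := key ((2 : ℤ) ^ j) r
    have hqZ : (q : ℤ) = (2 : ℤ) ^ j - 1 := by
      have : ((q + 1 : ℕ) : ℤ) = ((2 ^ j : ℕ) : ℤ) := by rw [hj]
      push_cast at this
      linarith
    have hpowZ : ((2 : ℤ) ^ e') = (q : ℤ) ^ m + 1 := by
      have : ((2 ^ e' : ℕ) : ℤ) = ((q ^ m + 1 : ℕ) : ℤ) := by rw [hpow]
      push_cast at this
      exact this
    rw [hqZ, hr, hk] at hpowZ
    -- `2 ^ (j + 1)` divides `2 ^ e'` and `k * (2 ^ j) ^ 2`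
    have d1 : (2 : ℤ) ^ (j + 1) ∣ (2 : ℤ) ^ e' := pow_dvd_pow 2 (by omega)
    have d2 : (2 : ℤ) ^ (j + 1) ∣ k * ((2 : ℤ) ^ j) ^ 2 := by
      apply Dvd.dvd.mul_left
      rw [← pow_mul]
      exact pow_dvd_pow 2 (by omega)
    have d3 : (2 : ℤ) ^ (j + 1) ∣ (2 * (r : ℤ) + 1) * (2 : ℤ) ^ j := by
      have : (2 * (r : ℤ) + 1) * (2 : ℤ) ^ j =
          (2 : ℤ) ^ e' - k * ((2 : ℤ) ^ j) ^ 2 := by rw [hpowZ]; ring
      rw [this]
      exact dvd_sub d1 d2
    rw [pow_succ, mul_comm ((2 : ℤ) ^ j) 2] at d3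
    have d4 : (2 : ℤ) ∣ 2 * (r : ℤ) + 1 :=
      (mul_dvd_mul_iff_right (pow_ne_zero j (by norm_num : (2 : ℤ) ≠ 0))).1 d3
    obtain ⟨c, hc⟩ := d4
    omega

end Cfsg.Agent.Helper9.Gross2
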