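import Mathlib
import Cfsg.Agent.Helper9.Gross2.FinC

set_option autoImplicit false

namespace Cfsg.Agent.Helper9.Gross2

/-- if `(2^e' - 1)^2` is a power of the prime `q`, then `q + 1 = 2^e'`. -/
theorem mersenne_of_sq_eq_prime_pow {q e' a : ℕ} (hq : q.Prime) (h2 : 2 ≤ 2 ^ e' - 1)
    (h : (2 ^ e' - 1) ^ 2 = q ^ a) : q + 1 = 2 ^ e' := by
  have hdvd : (2 ^ e' - 1) ∣ q ^ a := by
    rw [← h]
    exact dvd_pow_self _ (by norm_num)
  obtain ⟨m, -, hm⟩ := (Nat.dvd_prime_pow hq).1 hdvd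
  have hm1 : m = 1 := mersenne_exp_one hq hm h2
  rw [hm1, pow_one] at hm
  have hpos : 1 ≤ 2 ^ e' := Nat.one_le_two_pow
  omega

/-- a `p`-element (of order dividing `p ^ n`) fixing a coset of a `p'`-subgroup it normalizes
fixes an element of that coset. -/
theorem exists_fixed_in_coset_pow {Γ : Type*} [Group Γ] {p : ℕ} [hp : Fact p.Prime] (y : Γ)
    (n : ℕ) (hy : y ^ (p ^ n) = 1) (Z : Subgroup Γ) [Finite Z]
    (hZy : ∀ z ∈ Z, y * z * y⁻¹ ∈ Z)
    (hcop : ¬ p ∣ Nat.card Z) (g : Γ) (hg : y * g * y⁻¹ * g⁻¹ ∈ Z) :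
    ∃ z ∈ Z, y * (z * g) * y⁻¹ = z * g := by
  classical
  let α : Type _ := {h : Γ // h * g⁻¹ ∈ Z}
  let e : α ≃ ↥Z :=
    { toFun := fun h => ⟨h.1 * g⁻¹, h.2⟩
      invFun := fun z => ⟨z.1 * g, by
        have : z.1 * g * g⁻¹ = z.1 := by group
        rw [this]; exact z.2⟩
      left_inv := by
        intro h
        apply Subtype.ext
        change h.1 * g⁻¹ * g = h.1
        group
      right_inv := by
        intro z
        apply Subtype.ext
        change z.1 * g * g⁻¹ = z.1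
        group }
  have : Finite α := Finite.of_equiv _ e.symm
  let _ : Fintype α := Fintype.ofFinite α
  have hcard : Fintype.card α = Nat.card Z := by
    rw [← Nat.card_eq_fintype_card]
    exact Nat.card_congr e
  let f : Function.End α := fun h => ⟨y * h.1 * y⁻¹, by
    have e1 : y * h.1 * y⁻¹ * g⁻¹ = (y * (h.1 * g⁻¹) * y⁻¹) * (y * g * y⁻¹ * g⁻¹) := by group
    rw [e1]
    exact Z.mul_mem (hZy _ h.2) hg⟩
  have hfpow : ∀ k : ℕ, ∀ h : α, ((f ^ k) h).1 = y ^ k * h.1 * (y ^ k)⁻¹ := by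
    intro k
    induction k with
    | zero =>
      intro h
      rw [pow_zero, pow_zero, inv_one, mul_one, one_mul]
      rfl
    | succ k ih =>
      intro h
      rw [pow_succ']
      change y * ((f ^ k) h).1 * y⁻¹ = _
      rw [ih, pow_succ']
      group
  have hf : f ^ p ^ n = 1 := by
    have h1 : ∀ h : α, (f ^ p ^ n) h = (1 : Function.End α) h := by
      intro h
      apply Subtype.ext
      rw [hfpow, hy, inv_one, mul_one, one_mul]
      rfl
    exact funext h1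
  have hmod := Equiv.Perm.card_fixedPoints_modEq (f := f) (p := p) (n := n) hf
  have hne : Fintype.card (Function.fixedPoints f) ≠ 0 := by
    intro h0
    rw [h0, hcard] at hmod
    exact hcop ((Nat.modEq_zero_iff_dvd).1 hmod)
  obtain ⟨⟨h, hh⟩⟩ := Fintype.card_pos_iff.1 (Nat.pos_of_ne_zero hne)
  refine ⟨h.1 * g⁻¹, h.2, ?_⟩
  have h1 : f h = h := hh
  have h2 := congrArg Subtype.val h1
  change y * h.1 * y⁻¹ = h.1 at h2
  have e2 : h.1 * g⁻¹ * g = h.1 := by group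
  rw [e2, h2]

/-- plan step 5: an automorphism `ζ` of an abelian group `V` of odd order, central in a group
`G = [G, τ]` of automorphisms (`τ` an involution commuting with `ζ`), of order prime to `|V|`
and trivial on the elements inverted by `τ`, is trivial. -/
theorem aut_eq_one_of_trivial_on_inverted {V : Type*} [Group V] [Finite V]
    (hcomm : ∀ a b : V, a * b = b * a) (hodd : (Nat.card V).Coprime 2) (τ ζ : MulAut V)
    (hτ : τ * τ = 1) (hτζ : τ * ζ = ζ * τ) (G : Subgroup (MulAut V)) (hζG : ζ ∈ G)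
    (hζc : ∀ g ∈ G, g * ζ = ζ * g)
    (hG : G ≤ Subgroup.closure {u | ∃ g ∈ G, u = τ * g * τ⁻¹ * g⁻¹}) (m : ℕ)
    (hζm : ζ ^ m = 1) (hm : (Nat.card V).Coprime m)
    (htriv : ∀ v : V, τ v = v⁻¹ → ζ v = v) : ζ = 1 := by
  classical
  -- N v := ζ v * v⁻¹
  have hττ : ∀ v : V, τ (τ v) = v := by
    intro v
    have := congrArg (fun f : MulAut V => f v) hτ
    simpa [MulAut.mul_apply] using this
  have hτζv : ∀ v : V, τ (ζ v) = ζ (τ v) := by
    intro v
    have := congrArg (fun f : MulAut V => f v) hτζ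
    simpa [MulAut.mul_apply] using this
  have hNmul : ∀ a b : V, ζ (a * b) * (a * b)⁻¹ = (ζ a * a⁻¹) * (ζ b * b⁻¹) := by
    intro a b
    rw [map_mul, mul_inv_rev]
    rw [hcomm b⁻¹ a⁻¹, mul_assoc, mul_assoc]
    congr 1
    rw [← mul_assoc, ← mul_assoc, hcomm (ζ b) a⁻¹]
  -- every element is a square
  have hsq : ∀ v : V, ∃ w : V, v = w * w := by
    intro v
    have hcop : (Nat.card V).Coprime 2 := hodd
    obtain ⟨w, hw⟩ := (powCoprime hcop).surjective v
    refine ⟨w, ?_⟩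
    rw [← hw]
    simp [powCoprime, pow_two]
  -- N v is τ-fixed
  have hNfix : ∀ v : V, τ (ζ v * v⁻¹) = ζ v * v⁻¹ := by
    intro v
    obtain ⟨w, rfl⟩ := hsq v
    have hdec : w * w = (w * τ w) * (w * (τ w)⁻¹) := by
      rw [mul_assoc, ← mul_assoc (τ w), hcomm (τ w) w, mul_assoc, mul_inv_cancel, mul_one]
    have hinv : τ (w * (τ w)⁻¹) = (w * (τ w)⁻¹)⁻¹ := by
      rw [map_mul, map_inv, hττ, mul_inv_rev, inv_inv]
    have h1 : ζ (w * (τ w)⁻¹) * (w * (τ w)⁻¹)⁻¹ = 1 := by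
      rw [htriv _ hinv, mul_inv_cancel]
    have h2 : ζ (w * w) * (w * w)⁻¹ = ζ (w * τ w) * (w * τ w)⁻¹ := by
      conv_lhs => rw [hdec]
      rw [hNmul, h1, mul_one]
    rw [h2, map_mul, map_inv, hτζv, map_mul, hττ, hcomm (τ w) w]
  -- g (N v) = N (g v) for g ∈ G
  have hNG : ∀ g ∈ G, ∀ v : V, g (ζ v * v⁻¹) = ζ (g v) * (g v)⁻¹ := by
    intro g hg v
    rw [map_mul, map_inv]
    congr 1
    have := congrArg (fun f : MulAut V => f v) (hζc g hg)
    simpa [MulAut.mul_apply] using this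
  -- G fixes every N v
  have hGfix : ∀ g ∈ G, ∀ v : V, g (ζ v * v⁻¹) = ζ v * v⁻¹ := by
    have hle : G ≤ (⨅ v : V, MulAction.stabilizer (MulAut V) (ζ v * v⁻¹)) := by
      refine hG.trans ?_
      rw [Subgroup.closure_le]
      rintro _ ⟨g, hg, rfl⟩
      rw [SetLike.mem_coe, Subgroup.mem_iInf]
      intro v
      rw [MulAction.mem_stabilizer_iff]
      change (τ * g * τ⁻¹ * g⁻¹) (ζ v * v⁻¹) = ζ v * v⁻¹
      rw [MulAut.mul_apply, MulAut.mul_apply, MulAut.mul_apply]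
      have h1 : g⁻¹ (ζ v * v⁻¹) = ζ (g⁻¹ v) * (g⁻¹ v)⁻¹ := hNG g⁻¹ (G.inv_mem hg) v
      have h2 : τ⁻¹ (ζ (g⁻¹ v) * (g⁻¹ v)⁻¹) = ζ (g⁻¹ v) * (g⁻¹ v)⁻¹ := by
        have := hNfix (g⁻¹ v)
        rw [MulAut.inv_apply, MulEquiv.symm_apply_eq]
        exact this.symm
      rw [h1, h2, ← h1]
      rw [MulAut.inv_apply, MulEquiv.apply_symm_apply]
      exact hNfix v
    intro g hg v
    have := hle hg
    rw [Subgroup.mem_iInf] at this
    have h := this v
    rw [MulAction.mem_stabilizer_iff] at h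
    exact h
  have hζN : ∀ v : V, ζ (ζ v * v⁻¹) = ζ v * v⁻¹ := hGfix ζ hζG
  -- ζ^j v = (N v)^j * v
  have hpow : ∀ j : ℕ, ∀ v : V, (ζ ^ j) v = (ζ v * v⁻¹) ^ j * v := by
    intro j
    induction j with
    | zero => intro v; simp
    | succ j ih =>
      intro v
      rw [pow_succ', MulAut.mul_apply, ih, map_mul, map_pow, hζN]
      have hx : ζ v = (ζ v * v⁻¹) * v := by rw [mul_assoc, inv_mul_cancel, mul_one]
      generalize ζ v * v⁻¹ = x at hx ⊢
      rw [hx, ← mul_assoc, ← pow_succ]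
  apply MulEquiv.ext
  intro v
  have h1 : (ζ v * v⁻¹) ^ m = 1 := by
    have := hpow m v
    rw [hζm] at this
    have h2 : (1 : MulAut V) v = v := rfl
    rw [h2] at this
    have h3 : (ζ v * v⁻¹) ^ m * v = 1 * v := by rw [one_mul]; exact this.symm
    exact mul_right_cancel h3
  have h4 : ζ v * v⁻¹ = 1 := by
    have hord : orderOf (ζ v * v⁻¹) ∣ m := orderOf_dvd_of_pow_eq_one h1
    have hord2 : orderOf (ζ v * v⁻¹) ∣ Nat.card V := orderOf_dvd_natCard _
    have : orderOf (ζ v * v⁻¹) ∣ 1 := by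
      have := Nat.dvd_gcd hord2 hord
      rwa [hm] at this
    exact orderOf_eq_one_iff.1 (Nat.dvd_one.1 this)
  have h5 : ζ v = v := by
    have := mul_inv_eq_one.1 h4
    exact this
  rw [h5]
  rfl

end Cfsg.Agent.Helper9.Gross2
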