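import Mathlib
import Cfsg.Agent.Helper2.G2Quot

/-!
S3795 (Gross, `p = 2`): the commutator pairing `(g, h) ↦ χ [g, h]` of a subgroup `Q` whose
commutators lie in a subgroup `Z` centralized by `Q`, for a function `χ` multiplicative on `Z`;
its radical, and the induced pairing on a section of `Q`.
-/

set_option autoImplicit false

namespace Cfsg.Agent.Helper9.Gross2

open Cfsg.Agent.Helper2.G2

variable {Γ : Type*} [Group Γ] {μ : Type*} [CommGroup μ]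

/-- `Z` is centralized by `Q`, contains the commutators of `Q`, and `χ` is multiplicative on
`Z`. -/
structure CentChar (Q Z : Subgroup Γ) (χ : Γ → μ) : Prop where
  cent : ∀ a ∈ Z, ∀ g ∈ Q, a * g = g * a
  comm : ∀ g ∈ Q, ∀ h ∈ Q, g * h * g⁻¹ * h⁻¹ ∈ Z
  mul : ∀ a ∈ Z, ∀ b ∈ Z, χ (a * b) = χ a * χ b

namespace CentChar

variable {Q Z : Subgroup Γ} {χ : Γ → μ}

theorem map_one (hC : CentChar Q Z χ) : χ 1 = 1 := by
  have h := hC.mul 1 Z.one_mem 1 Z.one_mem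
  rw [mul_one] at h
  exact mul_eq_left.1 h.symm

theorem map_inv (hC : CentChar Q Z χ) (a : Γ) (ha : a ∈ Z) : χ a⁻¹ = (χ a)⁻¹ := by
  rw [eq_inv_iff_mul_eq_one, ← hC.mul _ (Z.inv_mem ha) _ ha, inv_mul_cancel, hC.map_one]

theorem comm_mul_left (hC : CentChar Q Z χ) (g g' h : Γ) (hg : g ∈ Q) (hg' : g' ∈ Q)
    (hh : h ∈ Q) :
    χ ((g * g') * h * (g * g')⁻¹ * h⁻¹) =
      χ (g * h * g⁻¹ * h⁻¹) * χ (g' * h * g'⁻¹ * h⁻¹) := by
  have e : (g * g') * h * (g * g')⁻¹ * h⁻¹ =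
      (g * (g' * h * g'⁻¹ * h⁻¹) * g⁻¹) * (g * h * g⁻¹ * h⁻¹) := by group
  have hc := hC.cent _ (hC.comm g' hg' h hh) g hg
  have e2 : g * (g' * h * g'⁻¹ * h⁻¹) * g⁻¹ = g' * h * g'⁻¹ * h⁻¹ := by
    rw [← hc, mul_inv_cancel_right]
  rw [e, e2, hC.mul _ (hC.comm g' hg' h hh) _ (hC.comm g hg h hh), mul_comm]

theorem comm_mul_right (hC : CentChar Q Z χ) (g h h' : Γ) (hg : g ∈ Q) (hh : h ∈ Q)
    (hh' : h' ∈ Q) :
    χ (g * (h * h') * g⁻¹ * (h * h')⁻¹) =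
      χ (g * h * g⁻¹ * h⁻¹) * χ (g * h' * g⁻¹ * h'⁻¹) := by
  have e : g * (h * h') * g⁻¹ * (h * h')⁻¹ =
      (g * h * g⁻¹ * h⁻¹) * (h * (g * h' * g⁻¹ * h'⁻¹) * h⁻¹) := by group
  have hc := hC.cent _ (hC.comm g hg h' hh') h hh
  have e2 : h * (g * h' * g⁻¹ * h'⁻¹) * h⁻¹ = g * h' * g⁻¹ * h'⁻¹ := by
    rw [← hc, mul_inv_cancel_right]
  rw [e, e2, hC.mul _ (hC.comm g hg h hh) _ (hC.comm g hg h' hh')]

theorem comm_swap (hC : CentChar Q Z χ) (g h : Γ) (hg : g ∈ Q) (hh : h ∈ Q) :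
    χ (h * g * h⁻¹ * g⁻¹) = (χ (g * h * g⁻¹ * h⁻¹))⁻¹ := by
  have e : h * g * h⁻¹ * g⁻¹ = (g * h * g⁻¹ * h⁻¹)⁻¹ := by group
  rw [e, hC.map_inv _ (hC.comm g hg h hh)]

theorem comm_self (hC : CentChar Q Z χ) (g : Γ) : χ (g * g * g⁻¹ * g⁻¹) = 1 := by
  have e : g * g * g⁻¹ * g⁻¹ = 1 := by group
  rw [e, hC.map_one]

/-- an element `u` preserving `χ` on `Z` preserves the pairing. -/
theorem comm_conj (hC : CentChar Q Z χ) (u : Γ) (huZ : ∀ a ∈ Z, χ (u * a * u⁻¹) = χ a)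
    (g h : Γ) (hg : g ∈ Q) (hh : h ∈ Q) :
    χ ((u * g * u⁻¹) * (u * h * u⁻¹) * (u * g * u⁻¹)⁻¹ * (u * h * u⁻¹)⁻¹) =
      χ (g * h * g⁻¹ * h⁻¹) := by
  have e : (u * g * u⁻¹) * (u * h * u⁻¹) * (u * g * u⁻¹)⁻¹ * (u * h * u⁻¹)⁻¹ =
      u * (g * h * g⁻¹ * h⁻¹) * u⁻¹ := by group
  rw [e, huZ _ (hC.comm g hg h hh)]

/-- the commutator pairing on `Q`. -/
def commPair (hC : CentChar Q Z χ) : ↥Q →* (↥Q →* μ) where
  toFun u :=
    { toFun := fun v => χ ((u : Γ) * (v : Γ) * (u : Γ)⁻¹ * (v : Γ)⁻¹)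
      map_one' := by
        have e : (u : Γ) * ((1 : ↥Q) : Γ) * (u : Γ)⁻¹ * ((1 : ↥Q) : Γ)⁻¹ = 1 := by
          rw [Subgroup.coe_one]; group
        rw [e, hC.map_one]
      map_mul' := fun v v' => by
        rw [Subgroup.coe_mul]
        exact hC.comm_mul_right u v v' u.2 v.2 v'.2 }
  map_one' := by
    apply MonoidHom.ext
    intro v
    change χ (((1 : ↥Q) : Γ) * (v : Γ) * ((1 : ↥Q) : Γ)⁻¹ * (v : Γ)⁻¹) = 1
    have e : ((1 : ↥Q) : Γ) * (v : Γ) * ((1 : ↥Q) : Γ)⁻¹ * (v : Γ)⁻¹ = 1 := by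
      rw [Subgroup.coe_one]; group
    rw [e, hC.map_one]
  map_mul' := fun u u' => by
    apply MonoidHom.ext
    intro v
    change χ (((u * u' : ↥Q) : Γ) * (v : Γ) * ((u * u' : ↥Q) : Γ)⁻¹ * (v : Γ)⁻¹) =
      χ ((u : Γ) * (v : Γ) * (u : Γ)⁻¹ * (v : Γ)⁻¹) *
        χ ((u' : Γ) * (v : Γ) * (u' : Γ)⁻¹ * (v : Γ)⁻¹)
    rw [Subgroup.coe_mul]
    exact hC.comm_mul_left u u' v u.2 u'.2 v.2

theorem commPair_apply (hC : CentChar Q Z χ) (u v : ↥Q) :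
    hC.commPair u v = χ ((u : Γ) * (v : Γ) * (u : Γ)⁻¹ * (v : Γ)⁻¹) := rfl

/-- the radical of the commutator pairing. -/
def radical (hC : CentChar Q Z χ) : Subgroup Γ := (hC.commPair).ker.map Q.subtype

theorem mem_radical (hC : CentChar Q Z χ) (g : Γ) :
    g ∈ hC.radical ↔ g ∈ Q ∧ ∀ h ∈ Q, χ (g * h * g⁻¹ * h⁻¹) = 1 := by
  unfold radical
  rw [Subgroup.mem_map]
  constructor
  · rintro ⟨u, hu, rfl⟩
    refine ⟨u.2, fun h hh => ?_⟩
    rw [MonoidHom.mem_ker] at hu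
    have := congrArg (fun f : ↥Q →* μ => f ⟨h, hh⟩) hu
    exact this
  · rintro ⟨hg, h⟩
    refine ⟨⟨g, hg⟩, ?_, rfl⟩
    rw [MonoidHom.mem_ker]
    apply MonoidHom.ext
    intro v
    exact h v v.2

theorem radical_le (hC : CentChar Q Z χ) : hC.radical ≤ Q :=
  fun g hg => ((hC.mem_radical g).1 hg).1

/-- an element normalizing `Q` and preserving `χ` on `Z` normalizes the radical. -/
theorem conj_mem_radical (hC : CentChar Q Z χ) (u : Γ) (huQ : ∀ g ∈ Q, u * g * u⁻¹ ∈ Q)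
    (huQ' : ∀ g ∈ Q, u⁻¹ * g * u ∈ Q) (huZ : ∀ a ∈ Z, χ (u * a * u⁻¹) = χ a)
    (g : Γ) (hg : g ∈ hC.radical) : u * g * u⁻¹ ∈ hC.radical := by
  rw [mem_radical] at hg ⊢
  refine ⟨huQ g hg.1, fun h hh => ?_⟩
  have h1 := hC.comm_conj u huZ g (u⁻¹ * h * u) hg.1 (huQ' h hh)
  have e : u * (u⁻¹ * h * u) * u⁻¹ = h := by group
  rw [e] at h1
  rw [h1]
  exact hg.2 _ (huQ' h hh)

theorem radical_normal (hC : CentChar Q Z χ) : ((hC.radical).subgroupOf Q).Normal := by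
  apply subgroupOf_normal_of_conj
  intro g hg v hv _
  apply hC.conj_mem_radical g (fun x hx => Q.mul_mem (Q.mul_mem hg hx) (Q.inv_mem hg))
    (fun x hx => Q.mul_mem (Q.mul_mem (Q.inv_mem hg) hx) hg) _ v hv
  intro a ha
  rw [← hC.cent a ha g hg, mul_inv_cancel_right]

/-- the pairing induced on a section `Q / (N ∩ Q)` with `N ∩ Q` in the radical. -/
noncomputable def quotPair (hC : CentChar Q Z χ) (N : Subgroup Γ) [hn : (N.subgroupOf Q).Normal]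
    (hN : ∀ g ∈ N, g ∈ Q → g ∈ hC.radical) :
    (↥Q ⧸ N.subgroupOf Q) →* ((↥Q ⧸ N.subgroupOf Q) →* μ) :=
  QuotientGroup.lift (N.subgroupOf Q)
    (QuotientGroup.lift (N.subgroupOf Q) (hC.commPair).flip (by
      intro u hu
      rw [Subgroup.mem_subgroupOf] at hu
      rw [MonoidHom.mem_ker]
      apply MonoidHom.ext
      intro v
      rw [MonoidHom.flip_apply, commPair_apply, MonoidHom.one_apply,
        hC.comm_swap u v u.2 v.2, inv_eq_one]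
      exact ((hC.mem_radical u).1 (hN u hu u.2)).2 v v.2)).flip (by
    intro u hu
    rw [Subgroup.mem_subgroupOf] at hu
    rw [MonoidHom.mem_ker]
    apply MonoidHom.ext
    intro v
    induction v using QuotientGroup.induction_on with
    | H v =>
      rw [MonoidHom.flip_apply, QuotientGroup.lift_mk, MonoidHom.flip_apply, commPair_apply,
        MonoidHom.one_apply]
      exact ((hC.mem_radical u).1 (hN u hu u.2)).2 v v.2)

theorem quotPair_mk (hC : CentChar Q Z χ) (N : Subgroup Γ) [hn : (N.subgroupOf Q).Normal]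
    (hN : ∀ g ∈ N, g ∈ Q → g ∈ hC.radical) (u v : ↥Q) :
    hC.quotPair N hN (QuotientGroup.mk u) (QuotientGroup.mk v) =
      χ ((u : Γ) * (v : Γ) * (u : Γ)⁻¹ * (v : Γ)⁻¹) := by
  unfold quotPair
  rw [QuotientGroup.lift_mk, MonoidHom.flip_apply, QuotientGroup.lift_mk, MonoidHom.flip_apply,
    commPair_apply]

end CentChar

end Cfsg.Agent.Helper9.Gross2
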