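import Mathlib
import Cfsg.Agent.Helper2.G2Quot
import Cfsg.Agent.Helper2.G2FinD
import Cfsg.Agent.Helper9.Gross2.CommForm

/-!
S3795 (Gross, `p = 2`), Tower Theorem, step 6 applied: if the section `A = Q₀ / R` (`R` the radical
of the commutator pairing of `Q₀`) has order `q ^ 2` with `q + 1 = 2 ^ e' ≤ 2 ^ e`, and the
`2`-element `x₁` of order dividing `2 ^ e` has its involution inverting `A`, then every element of
an `x₁`-invariant `q'`-group `Q'` centralizing `Z` and normalizing `Q₀` centralizes `A`.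
-/

set_option autoImplicit false

namespace Cfsg.Agent.Helper9.Gross2

open Cfsg.Agent.Helper2.G2

set_option maxHeartbeats 1000000 in
theorem tower_A {Γ : Type*} [Group Γ] [Finite Γ] {μ : Type*} [CommGroup μ]
    (t x₁ z : Γ) (e e' : ℕ) (he : 1 ≤ e) (hx₁t : x₁ ^ (2 ^ (e - 1)) = t)
    (q q' : ℕ) (hq : q.Prime) (hq' : q'.Prime) (hq'2 : q' ≠ 2) (hqq' : q ≠ q')
    (hqe : q + 1 = 2 ^ e') (hee : e' ≤ e)
    (Q₀ Z Q' : Subgroup Γ) (hQ' : IsPGroup q' Q')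
    (χ : Γ → μ) (hC : CentChar Q₀ Z χ)
    (hxQ₀ : ∀ g ∈ Q₀, x₁ * g * x₁⁻¹ ∈ Q₀) (hxχ : ∀ a ∈ Z, χ (x₁ * a * x₁⁻¹) = χ a)
    (hxQ' : ∀ h ∈ Q', x₁ * h * x₁⁻¹ ∈ Q')
    (hQ'Z : ∀ h ∈ Q', ∀ a ∈ Z, h * a = a * h)
    (htinv : ∀ g ∈ Q₀, g * (t * g * t⁻¹) ∈ hC.radical)
    (hidx : (hC.radical).relIndex Q₀ = q ^ 2)
    (hzQ' : z ∈ Q') (hzQ₀ : ∀ g ∈ Q₀, z * g * z⁻¹ ∈ Q₀) :
    ∀ v ∈ Q₀, z * v * z⁻¹ * v⁻¹ ∈ hC.radical := by
  classical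
  obtain ⟨R, hR⟩ : ∃ R : Subgroup Γ, R = hC.radical := ⟨_, rfl⟩
  rw [← hR] at htinv hidx ⊢
  have hRmem : ∀ g, g ∈ R ↔ g ∈ Q₀ ∧ ∀ h ∈ Q₀, χ (g * h * g⁻¹ * h⁻¹) = 1 := by
    rw [hR]; exact hC.mem_radical
  have hRn : (R.subgroupOf Q₀).Normal := by rw [hR]; exact hC.radical_normal
  have hRrad : ∀ g ∈ R, g ∈ Q₀ → g ∈ hC.radical := by
    intro g hg _; rw [← hR]; exact hg
  -- elements of the section normalizer
  have hsec : ∀ u : Γ, (∀ g ∈ Q₀, u * g * u⁻¹ ∈ Q₀) → (∀ a ∈ Z, χ (u * a * u⁻¹) = χ a) →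
      u ∈ secNorm Q₀ R := by
    intro u h1 h3
    have hn : u ∈ Subgroup.normalizer (Q₀ : Set Γ) := (mem_secNorm.1 (mem_secNorm_of_conj h1 h1)).1
    apply mem_secNorm_of_conj h1
    intro v hv
    rw [hR] at hv ⊢
    exact hC.conj_mem_radical u h1 (fun g hg => conj_inv_mem_of_normalizer hn hg) h3 v hv
  have hx₁N : x₁ ∈ secNorm Q₀ R := hsec x₁ hxQ₀ hxχ
  have hcentχ : ∀ u : Γ, (∀ a ∈ Z, u * a = a * u) → ∀ a ∈ Z, χ (u * a * u⁻¹) = χ a := by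
    intro u hu a ha
    rw [hu a ha, mul_inv_cancel_right]
  have hzN : z ∈ secNorm Q₀ R := hsec z hzQ₀ (hcentχ z (hQ'Z z hzQ'))
  have htN : t ∈ secNorm Q₀ R := by rw [← hx₁t]; exact Subgroup.pow_mem _ hx₁N _
  obtain ⟨φ, hφ⟩ : ∃ φ : ↥(secNorm Q₀ R) →* MulAut (↥Q₀ ⧸ R.subgroupOf Q₀), φ = quotAct Q₀ R :=
    ⟨_, rfl⟩
  have hφmk : ∀ (u : Γ) (hu : u ∈ secNorm Q₀ R) (v : Γ) (hv : v ∈ Q₀),
      ∃ hv' : u * v * u⁻¹ ∈ Q₀, φ ⟨u, hu⟩ (QuotientGroup.mk ⟨v, hv⟩) =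
        QuotientGroup.mk ⟨u * v * u⁻¹, hv'⟩ := by
    intro u hu v hv
    refine ⟨conj_mem_of_normalizer (mem_secNorm.1 hu).1 hv, ?_⟩
    rw [hφ]
    exact quotAct_mk' Q₀ R ⟨u, hu⟩ v hv
  have hφone : ∀ (u : Γ) (hu : u ∈ secNorm Q₀ R),
      φ ⟨u, hu⟩ = 1 ↔ ∀ v ∈ Q₀, u * v * u⁻¹ * v⁻¹ ∈ R := by
    intro u hu
    rw [hφ]
    exact quotAct_eq_one_iff Q₀ R ⟨u, hu⟩
  -- the form
  obtain ⟨F, hF⟩ : ∃ F : (↥Q₀ ⧸ R.subgroupOf Q₀) →* ((↥Q₀ ⧸ R.subgroupOf Q₀) →* μ),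
      F = hC.quotPair R hRrad := ⟨_, rfl⟩
  have hFmk : ∀ (u v : Γ) (hu : u ∈ Q₀) (hv : v ∈ Q₀),
      F (QuotientGroup.mk ⟨u, hu⟩) (QuotientGroup.mk ⟨v, hv⟩) = χ (u * v * u⁻¹ * v⁻¹) := by
    intro u v hu hv
    rw [hF]
    exact hC.quotPair_mk R hRrad ⟨u, hu⟩ ⟨v, hv⟩
  have hP : IsPlane q (fun a b : ↥Q₀ ⧸ R.subgroupOf Q₀ => F a b) := by
    refine ⟨⟨?_, ?_, ?_⟩, hq, ?_, ?_⟩
    · intro a b c
      rw [map_mul, MonoidHom.mul_apply]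
    · intro a b c
      rw [map_mul]
    · intro a
      induction a using QuotientGroup.induction_on with
      | H u =>
        rcases u with ⟨u, hu⟩
        rw [hFmk u u hu hu]
        exact hC.comm_self u
    · rw [← hidx]
      rfl
    · intro a ha
      induction a using QuotientGroup.induction_on with
      | H u =>
        rcases u with ⟨u, hu⟩
        have hu1 : u ∉ R := by
          intro h
          apply ha
          exact (mk_eq_one_iff Q₀ R ⟨u, hu⟩).2 h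
        rw [hRmem] at hu1
        push Not at hu1
        obtain ⟨h, hh, hne⟩ := hu1 hu
        refine ⟨QuotientGroup.mk ⟨h, hh⟩, ?_⟩
        rw [hFmk u h hu hh]
        exact hne
  -- the automorphism `x`
  obtain ⟨x, hxdef⟩ : ∃ x, x = φ ⟨x₁, hx₁N⟩ := ⟨_, rfl⟩
  have ht : ∀ a, (x ^ (2 ^ (e - 1))) a = a⁻¹ := by
    intro a
    have h1 : x ^ (2 ^ (e - 1)) = φ ⟨t, htN⟩ := by
      rw [hxdef, ← map_pow]
      congr 1
      apply Subtype.ext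
      rw [Subgroup.coe_pow]
      exact hx₁t
    rw [h1]
    induction a using QuotientGroup.induction_on with
    | H u =>
      rcases u with ⟨u, hu⟩
      obtain ⟨hu', hτu⟩ := hφmk t htN u hu
      rw [hτu, ← QuotientGroup.mk_inv, mk_eq_mk_iff]
      have e1 : (t * u * t⁻¹)⁻¹ * u⁻¹ = (u * (t * u * t⁻¹))⁻¹ := by group
      change (t * u * t⁻¹)⁻¹ * u⁻¹ ∈ R
      rw [e1]
      exact R.inv_mem (htinv u hu)
  -- the `q'`-group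
  have hQ'N : ∀ u : ↥(secNorm Q₀ R), u ∈ Q'.subgroupOf (secNorm Q₀ R) ↔ (u : Γ) ∈ Q' :=
    fun u => Subgroup.mem_subgroupOf
  obtain ⟨Zb, hZb⟩ : ∃ Zb : Subgroup (MulAut (↥Q₀ ⧸ R.subgroupOf Q₀)),
      Zb = Subgroup.map φ (Q'.subgroupOf (secNorm Q₀ R)) := ⟨_, rfl⟩
  have hZbp : IsPGroup q' Zb := by
    rw [hZb]
    exact IsPGroup.map (hQ'.comap_subtype) φ
  have hZbf : ∀ u ∈ Zb, ∀ a b : ↥Q₀ ⧸ R.subgroupOf Q₀,
      (fun a b => F a b) (u a) (u b) = (fun a b => F a b) a b := by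
    intro u₀ hu₀ a b
    rw [hZb] at hu₀
    obtain ⟨u, hu, rfl⟩ := Subgroup.mem_map.1 hu₀
    rw [hQ'N] at hu
    rcases u with ⟨u, huN⟩
    induction a using QuotientGroup.induction_on with
    | H g =>
      induction b using QuotientGroup.induction_on with
      | H h =>
        rcases g with ⟨g, hg⟩
        rcases h with ⟨h, hh⟩
        obtain ⟨hg', hug⟩ := hφmk u huN g hg
        obtain ⟨hh', huh⟩ := hφmk u huN h hh
        change F _ _ = F _ _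
        rw [hug, huh, hFmk _ _ hg' hh', hFmk g h hg hh]
        exact hC.comm_conj u (hcentχ u (hQ'Z u hu)) g h hg hh
  have hxZb : ∀ u ∈ Zb, x * u * x⁻¹ ∈ Zb := by
    intro u₀ hu₀
    rw [hZb] at hu₀ ⊢
    obtain ⟨u, hu, rfl⟩ := Subgroup.mem_map.1 hu₀
    rw [hQ'N] at hu
    rw [hxdef, ← map_inv, ← map_mul, ← map_mul]
    refine Subgroup.mem_map.2 ⟨_, ?_, rfl⟩
    rw [hQ'N]
    exact hxQ' _ hu
  have hbot : Zb = ⊥ :=
    fin_contra hP hq' hq'2 (Ne.symm hqq') hqe hee he x ht Zb hZbp hZbf hxZb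
  have hz1 : φ ⟨z, hzN⟩ = 1 := by
    have hmem : φ ⟨z, hzN⟩ ∈ Zb := by
      rw [hZb]
      refine Subgroup.mem_map.2 ⟨⟨z, hzN⟩, ?_, rfl⟩
      rw [hQ'N]
      exact hzQ'
    rw [hbot, Subgroup.mem_bot] at hmem
    exact hmem
  exact (hφone z hzN).1 hz1

end Cfsg.Agent.Helper9.Gross2
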