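import Mathlib
import Cfsg.Agent.Helper2.G2Quot
import Cfsg.Agent.Helper9.Gross2.CommForm
import Cfsg.Agent.Helper9.Gross2.AuxL

/-!
S3795 (Gross, `p = 2`), Tower Theorem, step 5: an element `z` of `Q' = [Q', t]`, commuting with
`t`, central in `Q'` modulo `C_{Q'}(Q_m)`, and centralizing `[Q_m, t]` modulo the radical `Y` of
the commutator pairing of `Q_m`, centralizes `Q_m` modulo `Y`.
-/

set_option autoImplicit false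

namespace Cfsg.Agent.Helper9.Gross2

open Cfsg.Agent.Helper2.G2

set_option maxHeartbeats 1000000 in
theorem tower_B {Γ : Type*} [Group Γ] [Finite Γ] {μ : Type*} [CommGroup μ]
    (t z : Γ) (q q' : ℕ) (hq : q.Prime) (hq' : q'.Prime) (hq2 : q ≠ 2) (hqq' : q ≠ q')
    (Qm Z Q₀ Q' : Subgroup Γ) (hQm : IsPGroup q Qm) (hQ' : IsPGroup q' Q')
    (htt : t * t = 1) (htQm : ∀ g ∈ Qm, t * g * t⁻¹ ∈ Qm)
    (hQ'Qm : ∀ h ∈ Q', ∀ g ∈ Qm, h * g * h⁻¹ ∈ Qm)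
    (χ : Γ → μ) (hC : CentChar Qm Z χ)
    (htZ : ∀ a ∈ Z, t * a = a * t) (hQ'Z : ∀ h ∈ Q', ∀ a ∈ Z, h * a = a * h)
    (hQ₀mem : ∀ g ∈ Qm, t * g * t⁻¹ * g⁻¹ ∈ Q₀)
    (hQ'gen : Q' ≤ Subgroup.closure {y | ∃ h ∈ Q', y = t * h * t⁻¹ * h⁻¹})
    (hzQ' : z ∈ Q') (hzt : t * z = z * t)
    (hzc : ∀ h ∈ Q', ∀ g ∈ Qm, (z * h * z⁻¹ * h⁻¹) * g = g * (z * h * z⁻¹ * h⁻¹))
    (hzQ₀ : ∀ v ∈ Q₀, v ∈ Qm → z * v * z⁻¹ * v⁻¹ ∈ hC.radical)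
    (g : Γ) (hg : g ∈ Qm) : z * g * z⁻¹ * g⁻¹ ∈ hC.radical := by
  classical
  have : Fact q.Prime := ⟨hq⟩
  have : Fact q'.Prime := ⟨hq'⟩
  obtain ⟨Y, hY⟩ : ∃ Y : Subgroup Γ, Y = hC.radical := ⟨_, rfl⟩
  rw [← hY] at hzQ₀ ⊢
  have hYmem : ∀ g, g ∈ Y ↔ g ∈ Qm ∧ ∀ h ∈ Qm, χ (g * h * g⁻¹ * h⁻¹) = 1 := by
    rw [hY]; exact hC.mem_radical
  have hYn : (Y.subgroupOf Qm).Normal := by rw [hY]; exact hC.radical_normal
  have hti : t⁻¹ = t := inv_eq_of_mul_eq_one_right htt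
  have hsec : ∀ u : Γ, (∀ g ∈ Qm, u * g * u⁻¹ ∈ Qm) → (∀ g ∈ Qm, u⁻¹ * g * u ∈ Qm) →
      (∀ a ∈ Z, u * a = a * u) → u ∈ secNorm Qm Y := by
    intro u h1 h2 h3
    apply mem_secNorm_of_conj h1
    intro v hv
    rw [hY] at hv ⊢
    apply hC.conj_mem_radical u h1 h2 _ v hv
    intro a ha
    rw [h3 a ha, mul_inv_cancel_right]
  have htN : t ∈ secNorm Qm Y := by
    apply hsec t htQm _ htZ
    intro g hg
    have := htQm g hg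
    rw [hti] at this ⊢
    exact this
  have hQ'N : ∀ h ∈ Q', h ∈ secNorm Qm Y := by
    intro h hh
    apply hsec h (hQ'Qm h hh) _ (hQ'Z h hh)
    intro g hg
    have := hQ'Qm h⁻¹ (Q'.inv_mem hh) g hg
    rwa [inv_inv] at this
  have hzN : z ∈ secNorm Qm Y := hQ'N z hzQ'
  obtain ⟨φ, hφ⟩ : ∃ φ : ↥(secNorm Qm Y) →* MulAut (↥Qm ⧸ Y.subgroupOf Qm), φ = quotAct Qm Y :=
    ⟨_, rfl⟩
  have hφmk : ∀ (u : Γ) (hu : u ∈ secNorm Qm Y) (v : Γ) (hv : v ∈ Qm),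
      ∃ hv' : u * v * u⁻¹ ∈ Qm, φ ⟨u, hu⟩ (QuotientGroup.mk ⟨v, hv⟩) =
        QuotientGroup.mk ⟨u * v * u⁻¹, hv'⟩ := by
    intro u hu v hv
    refine ⟨conj_mem_of_normalizer (mem_secNorm.1 hu).1 hv, ?_⟩
    rw [hφ]
    exact quotAct_mk' Qm Y ⟨u, hu⟩ v hv
  have hφone : ∀ (u : Γ) (hu : u ∈ secNorm Qm Y),
      φ ⟨u, hu⟩ = 1 ↔ ∀ v ∈ Qm, u * v * u⁻¹ * v⁻¹ ∈ Y := by
    intro u hu
    rw [hφ]
    exact quotAct_eq_one_iff Qm Y ⟨u, hu⟩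
  -- the abelian group `V = Q_m / Y`
  have hZY : ∀ a ∈ Z, a ∈ Qm → a ∈ Y := by
    intro a ha haQ
    rw [hYmem]
    refine ⟨haQ, fun h hh => ?_⟩
    rw [hC.cent a ha h hh, mul_inv_cancel_right, mul_inv_cancel, hC.map_one]
  have hcommV : ∀ a b : ↥Qm ⧸ Y.subgroupOf Qm, a * b = b * a := by
    intro a b
    induction a using QuotientGroup.induction_on with
    | H u =>
      induction b using QuotientGroup.induction_on with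
      | H v =>
        rw [← QuotientGroup.mk_mul, ← QuotientGroup.mk_mul, mk_eq_mk_iff]
        have h1 := hC.comm _ (Qm.inv_mem v.2) _ (Qm.inv_mem u.2)
        have e : ((u * v : ↥Qm) : Γ)⁻¹ * ((v * u : ↥Qm) : Γ) =
            (v : Γ)⁻¹ * (u : Γ)⁻¹ * ((v : Γ)⁻¹)⁻¹ * ((u : Γ)⁻¹)⁻¹ := by
          rw [Subgroup.coe_mul, Subgroup.coe_mul]; group
        rw [e]
        apply hZY _ h1
        exact Qm.mul_mem (Qm.mul_mem (Qm.mul_mem (Qm.inv_mem v.2) (Qm.inv_mem u.2))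
          (Qm.inv_mem (Qm.inv_mem v.2))) (Qm.inv_mem (Qm.inv_mem u.2))
  -- cardinalities
  obtain ⟨a, ha⟩ := (IsPGroup.iff_card).1 hQm
  obtain ⟨b, hb⟩ := (IsPGroup.iff_card).1 hQ'
  have hcardV : Nat.card (↥Qm ⧸ Y.subgroupOf Qm) ∣ q ^ a := by
    rw [← ha]
    exact Subgroup.card_quotient_dvd_card _
  obtain ⟨a', -, ha'⟩ := (Nat.dvd_prime_pow hq).1 hcardV
  have hodd : (Nat.card (↥Qm ⧸ Y.subgroupOf Qm)).Coprime 2 := by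
    rw [ha']
    apply Nat.Coprime.pow_left
    exact (Nat.coprime_primes hq Nat.prime_two).2 hq2
  have hcop : (Nat.card (↥Qm ⧸ Y.subgroupOf Qm)).Coprime (Nat.card ↥Q') := by
    rw [ha', hb]
    apply Nat.Coprime.pow
    exact (Nat.coprime_primes hq hq').2 hqq'
  -- the automorphisms
  obtain ⟨τ, hτdef⟩ : ∃ τ, τ = φ ⟨t, htN⟩ := ⟨_, rfl⟩
  obtain ⟨ζ, hζdef⟩ : ∃ ζ, ζ = φ ⟨z, hzN⟩ := ⟨_, rfl⟩
  obtain ⟨G, hGdef⟩ : ∃ G : Subgroup (MulAut (↥Qm ⧸ Y.subgroupOf Qm)),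
      G = Subgroup.map φ (Q'.subgroupOf (secNorm Qm Y)) := ⟨_, rfl⟩
  have hGmem : ∀ h (hh : h ∈ Q'), φ ⟨h, hQ'N h hh⟩ ∈ G := by
    intro h hh
    rw [hGdef]
    exact Subgroup.mem_map.2 ⟨⟨h, hQ'N h hh⟩, Subgroup.mem_subgroupOf.2 hh, rfl⟩
  have hGmem' : ∀ η ∈ G, ∃ h, ∃ hh : h ∈ Q', η = φ ⟨h, hQ'N h hh⟩ := by
    intro η hη
    rw [hGdef] at hη
    obtain ⟨u, hu, rfl⟩ := Subgroup.mem_map.1 hη
    exact ⟨u.1, Subgroup.mem_subgroupOf.1 hu, rfl⟩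
  have hττ : τ * τ = 1 := by
    rw [hτdef, ← map_mul]
    have : (⟨t, htN⟩ : ↥(secNorm Qm Y)) * ⟨t, htN⟩ = 1 := Subtype.ext htt
    rw [this, map_one]
  have hτζ : τ * ζ = ζ * τ := by
    rw [hτdef, hζdef, ← map_mul, ← map_mul]
    congr 1
    exact Subtype.ext hzt
  have hζG : ζ ∈ G := by rw [hζdef]; exact hGmem z hzQ'
  have hζc : ∀ η ∈ G, η * ζ = ζ * η := by
    intro η hη
    obtain ⟨h, hh, rfl⟩ := hGmem' η hη
    rw [hζdef]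
    -- the commutator acts trivially
    have hcN : z * h * z⁻¹ * h⁻¹ ∈ secNorm Qm Y :=
      Subgroup.mul_mem _ (Subgroup.mul_mem _ (Subgroup.mul_mem _ hzN (hQ'N h hh))
        (Subgroup.inv_mem _ hzN)) (Subgroup.inv_mem _ (hQ'N h hh))
    have h1 : φ ⟨z * h * z⁻¹ * h⁻¹, hcN⟩ = 1 := by
      rw [hφone]
      intro v hv
      rw [hzc h hh v hv, mul_inv_cancel_right, mul_inv_cancel]
      exact Y.one_mem
    have h2 : (⟨z * h * z⁻¹ * h⁻¹, hcN⟩ : ↥(secNorm Qm Y)) =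
        ⟨z, hzN⟩ * ⟨h, hQ'N h hh⟩ * ⟨z, hzN⟩⁻¹ * ⟨h, hQ'N h hh⟩⁻¹ := Subtype.ext rfl
    rw [h2, map_mul, map_mul, map_mul, map_inv, map_inv] at h1
    have h3 := mul_inv_eq_one.1 h1
    have h4 := mul_inv_eq_iff_eq_mul.1 h3
    exact h4.symm
  have hG : G ≤ Subgroup.closure {u | ∃ η ∈ G, u = τ * η * τ⁻¹ * η⁻¹} := by
    obtain ⟨K, hK⟩ : ∃ K : Subgroup (MulAut (↥Qm ⧸ Y.subgroupOf Qm)),
        K = Subgroup.closure {u | ∃ η ∈ G, u = τ * η * τ⁻¹ * η⁻¹} := ⟨_, rfl⟩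
    rw [← hK]
    have hle : Q' ≤ (K.comap φ).map (secNorm Qm Y).subtype := by
      refine hQ'gen.trans ?_
      rw [Subgroup.closure_le]
      rintro _ ⟨h, hh, rfl⟩
      rw [SetLike.mem_coe, Subgroup.mem_map]
      refine ⟨⟨t, htN⟩ * ⟨h, hQ'N h hh⟩ * ⟨t, htN⟩⁻¹ * ⟨h, hQ'N h hh⟩⁻¹, ?_, rfl⟩
      rw [Subgroup.mem_comap, map_mul, map_mul, map_mul, map_inv, map_inv, hK]
      apply Subgroup.subset_closure
      exact ⟨φ ⟨h, hQ'N h hh⟩, hGmem h hh, by rw [hτdef]⟩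
    intro η hη
    obtain ⟨h, hh, rfl⟩ := hGmem' η hη
    obtain ⟨u', hu', hu'eq⟩ := Subgroup.mem_map.1 (hle hh)
    have : u' = ⟨h, hQ'N h hh⟩ := Subtype.ext hu'eq
    rw [← this]
    exact Subgroup.mem_comap.1 hu'
  have hζm : ζ ^ (Nat.card ↥Q') = 1 := by
    rw [hζdef, ← map_pow]
    have : (⟨z, hzN⟩ : ↥(secNorm Qm Y)) ^ (Nat.card ↥Q') = 1 := by
      apply Subtype.ext
      rw [Subgroup.coe_pow, Subgroup.coe_one]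
      have h1 : (⟨z, hzQ'⟩ : ↥Q') ^ (Nat.card ↥Q') = 1 := pow_card_eq_one'
      have h2 := congrArg Subtype.val h1
      rwa [Subgroup.coe_pow] at h2
    rw [this, map_one]
  have htriv : ∀ v : ↥Qm ⧸ Y.subgroupOf Qm, τ v = v⁻¹ → ζ v = v := by
    intro v hv
    -- `ζ` fixes `v * v`
    have hsq : ζ (v * v) = v * v := by
      induction v using QuotientGroup.induction_on with
      | H u =>
        rcases u with ⟨u, hu⟩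
        obtain ⟨hu', hτu⟩ := hφmk t htN u hu
        rw [hτdef, hτu] at hv
        -- `v * v = mk (u * (t u t⁻¹)⁻¹)`
        have hw : u * (t * u * t⁻¹)⁻¹ ∈ Qm := Qm.mul_mem hu (Qm.inv_mem hu')
        have hvv : (QuotientGroup.mk ⟨u, hu⟩ : ↥Qm ⧸ Y.subgroupOf Qm) * QuotientGroup.mk ⟨u, hu⟩ =
            QuotientGroup.mk ⟨u * (t * u * t⁻¹)⁻¹, hw⟩ := by
          have e : (⟨u * (t * u * t⁻¹)⁻¹, hw⟩ : ↥Qm) = ⟨u, hu⟩ * ⟨t * u * t⁻¹, hu'⟩⁻¹ :=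
            Subtype.ext rfl
          rw [e, QuotientGroup.mk_mul, QuotientGroup.mk_inv, hv, inv_inv]
        rw [hvv]
        have hwQ₀ : (u * (t * u * t⁻¹)⁻¹)⁻¹ ∈ Q₀ := by
          have e : (u * (t * u * t⁻¹)⁻¹)⁻¹ = t * u * t⁻¹ * u⁻¹ := by group
          rw [e]
          exact hQ₀mem u hu
        have h5 := hzQ₀ _ hwQ₀ (Qm.inv_mem hw)
        obtain ⟨hw', hζw⟩ := hφmk z hzN _ hw
        rw [hζdef, hζw, mk_eq_mk_iff]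
        have e : (z * (u * (t * u * t⁻¹)⁻¹) * z⁻¹)⁻¹ * (u * (t * u * t⁻¹)⁻¹) =
            z * (u * (t * u * t⁻¹)⁻¹)⁻¹ * z⁻¹ * ((u * (t * u * t⁻¹)⁻¹)⁻¹)⁻¹ := by group
        change (z * (u * (t * u * t⁻¹)⁻¹) * z⁻¹)⁻¹ * (u * (t * u * t⁻¹)⁻¹) ∈ Y
        rw [e]
        exact h5
    rw [map_mul] at hsq
    have hd : (ζ v * v⁻¹) * (ζ v * v⁻¹) = 1 := by
      have e1 : (ζ v * v⁻¹) * (ζ v * v⁻¹) = (ζ v * ζ v) * (v⁻¹ * v⁻¹) := by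
        rw [mul_assoc, ← mul_assoc v⁻¹, hcommV v⁻¹ (ζ v), mul_assoc, ← mul_assoc]
      rw [e1, hsq]
      group
    have hord : orderOf (ζ v * v⁻¹) ∣ 2 := by
      apply orderOf_dvd_of_pow_eq_one
      rw [pow_two]; exact hd
    have hord2 : orderOf (ζ v * v⁻¹) ∣ Nat.card (↥Qm ⧸ Y.subgroupOf Qm) := orderOf_dvd_natCard _
    have h1 : orderOf (ζ v * v⁻¹) ∣ 1 := by
      have := Nat.dvd_gcd hord2 hord
      rwa [hodd] at this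
    have h2 := orderOf_eq_one_iff.1 (Nat.dvd_one.1 h1)
    exact mul_inv_eq_one.1 h2
  have hζ1 : ζ = 1 :=
    aut_eq_one_of_trivial_on_inverted hcommV hodd τ ζ hττ hτζ G hζG hζc hG (Nat.card ↥Q') hζm hcop
      htriv
  rw [hζdef, hφone] at hζ1
  exact hζ1 g hg

end Cfsg.Agent.Helper9.Gross2
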