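import Mathlib
import Cfsg.Agent.Lead.SGOrb
import Cfsg.Agent.Lead.SGComm
import Cfsg.Agent.Helper3.ShHHmin
import Cfsg.Agent.Helper3.ShCliffordC
import Cfsg.Agent.Helper9.GrossBr.PPgen
import Cfsg.Agent.Helper9.Gross2.AuxL
import Cfsg.Agent.Helper9.Gross2.TowerA
import Cfsg.Agent.Helper9.Gross2.TowerB

/-!
S3795 (Gross, `p = 2`), Tower Theorem, steps 4–6 as one statement (`notes/S3795_plan.md` §1(c)):
the configuration produced by steps 1–3 is contradictory.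
-/

set_option autoImplicit false
set_option linter.style.haveILetI false

namespace Cfsg.Agent.Helper9.Gross2

open Cfsg.Agent.Lead.S3F Cfsg.Agent.Lead.SG
open Classical

set_option maxHeartbeats 4000000 in
/-- **Tower Theorem, steps 4–6.**  `t = s ^ (2 ^ (n - 1))`; `Q_m` a special `q`-group (centre `Z`
centralized by `t` and `Q'`) acted on by the `q'`-group `Q' = [Q', t]`; `Q₀ = [Q_m, t]`;
`z ∈ C_{Q'}(t)` central in `Q'` modulo `C_{Q'}(Q_m)`: then `z` acts trivially on `Q_m / Z`. -/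
theorem tower_final {k : Type*} [Field k] [IsAlgClosed k] {Γ : Type*} [Group Γ] [Finite Γ]
    {W : Type*} [AddCommGroup W] [Module k W] [Module.Finite k W] (ρ : Representation k Γ W)
    (s : Γ) (n : ℕ) (hn : 1 ≤ n) (hs : s ^ (2 ^ n) = 1) (hfix : ∀ w : W, ρ s w = w → w = 0)
    (q q' : ℕ) (hq : q.Prime) (hq' : q'.Prime) (hq2 : q ≠ 2) (hq'2 : q' ≠ 2) (hqq' : q ≠ q')
    (h2k : ((2 : ℕ) : k) ≠ 0) (hqk : (q : k) ≠ 0)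
    (Qm Z Q₀ Q' : Subgroup Γ) (hQm : IsPGroup q Qm) (hQ' : IsPGroup q' Q')
    (hsQm : ∀ g ∈ Qm, s * g * s⁻¹ ∈ Qm) (hsQ' : ∀ h ∈ Q', s * h * s⁻¹ ∈ Q')
    (hQ'Qm : ∀ h ∈ Q', ∀ g ∈ Qm, h * g * h⁻¹ ∈ Qm) (hfaith : ∀ g ∈ Qm, ρ g = 1 → g = 1)
    (hZQm : Z ≤ Qm) (hZc : ∀ a ∈ Z, ∀ g ∈ Qm, a * g = g * a)
    (hZall : ∀ g ∈ Qm, (∀ h ∈ Qm, g * h = h * g) → g ∈ Z)
    (hcomm : ∀ g ∈ Qm, ∀ h ∈ Qm, g * h * g⁻¹ * h⁻¹ ∈ Z)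
    (htZ : ∀ a ∈ Z, s ^ (2 ^ (n - 1)) * a = a * s ^ (2 ^ (n - 1)))
    (hQ'Z : ∀ h ∈ Q', ∀ a ∈ Z, h * a = a * h)
    (hQ₀Qm : Q₀ ≤ Qm)
    (hQ₀mem : ∀ g ∈ Qm, s ^ (2 ^ (n - 1)) * g * (s ^ (2 ^ (n - 1)))⁻¹ * g⁻¹ ∈ Q₀)
    (hQ₀gen : Q₀ ≤ Subgroup.closure
      {y | ∃ g ∈ Qm, y = s ^ (2 ^ (n - 1)) * g * (s ^ (2 ^ (n - 1)))⁻¹ * g⁻¹})
    (hCQ₀ : ∀ c ∈ Q₀, s ^ (2 ^ (n - 1)) * c = c * s ^ (2 ^ (n - 1)) → ∀ g ∈ Q₀, c * g = g * c)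
    (hCQm : ∀ c ∈ Qm, s ^ (2 ^ (n - 1)) * c = c * s ^ (2 ^ (n - 1)) → ∀ g ∈ Q₀, c * g = g * c)
    (hdec : ∀ g ∈ Qm, ∃ c ∈ Qm, s ^ (2 ^ (n - 1)) * c = c * s ^ (2 ^ (n - 1)) ∧
      ∃ g₀ ∈ Q₀, g = c * g₀)
    (hQ'gen : Q' ≤ Subgroup.closure
      {y | ∃ h ∈ Q', y = s ^ (2 ^ (n - 1)) * h * (s ^ (2 ^ (n - 1)))⁻¹ * h⁻¹})
    (z : Γ) (hzQ' : z ∈ Q') (hzt : s ^ (2 ^ (n - 1)) * z = z * s ^ (2 ^ (n - 1)))
    (hzc : ∀ h ∈ Q', ∀ g ∈ Qm, (z * h * z⁻¹ * h⁻¹) * g = g * (z * h * z⁻¹ * h⁻¹)) :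
    ∀ g ∈ Qm, z * g * z⁻¹ * g⁻¹ ∈ Z := by
  by_contra hznt
  push Not at hznt
  haveI : Fintype Γ := Fintype.ofFinite Γ
  haveI : Fact q.Prime := ⟨hq⟩
  obtain ⟨t, ht⟩ : ∃ t, t = s ^ (2 ^ (n - 1)) := ⟨_, rfl⟩
  rw [← ht] at htZ hQ₀mem hQ₀gen hCQ₀ hCQm hdec hQ'gen hzt
  have htt : t * t = 1 := by
    rw [ht, ← pow_add, ← two_mul, ← pow_succ', Nat.sub_add_cancel hn, hs]
  have hti : t⁻¹ = t := inv_eq_of_mul_eq_one_right htt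
  have hpowQm : ∀ i : ℕ, ∀ g ∈ Qm, s ^ i * g * (s ^ i)⁻¹ ∈ Qm :=
    Cfsg.Agent.Helper3.Shult.conj_pow_mem Qm s hsQm
  have hpowQ' : ∀ i : ℕ, ∀ h ∈ Q', s ^ i * h * (s ^ i)⁻¹ ∈ Q' :=
    Cfsg.Agent.Helper3.Shult.conj_pow_mem Q' s hsQ'
  have htQm : ∀ g ∈ Qm, t * g * t⁻¹ ∈ Qm := by rw [ht]; exact hpowQm _
  have hsQmn : s ∈ Subgroup.normalizer (Qm : Set Γ) := mem_normalizer_of_conj_mem Qm s hsQm
  -- `s` normalizes `Z`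
  have hsZ : ∀ a ∈ Z, s * a * s⁻¹ ∈ Z := by
    intro a ha
    apply hZall _ (hsQm a (hZQm ha))
    intro h hh
    have h1 : s⁻¹ * h * s ∈ Qm := conj_mem_of_mem_normalizer hsQmn ⟨h, hh⟩
    have h2 := hZc a ha _ h1
    calc s * a * s⁻¹ * h = s * (a * (s⁻¹ * h * s)) * s⁻¹ := by group
      _ = s * ((s⁻¹ * h * s) * a) * s⁻¹ := by rw [h2]
      _ = h * (s * a * s⁻¹) := by group
  have hsZn : s ∈ Subgroup.normalizer (Z : Set Γ) := mem_normalizer_of_conj_mem Z s hsZ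
  have hZp : IsPGroup q Z := hQm.to_le hZQm
  have hZk : (Fintype.card Z : k) ≠ 0 := card_cast_ne_zero_of_isPGroup hqk Z hZp
  haveI : HasEnoughRootsOfUnity k (Monoid.exponent Z) :=
    hasEnoughRootsOfUnity_of_isPGroup hqk Z hZp
  have hZcomm : ∀ a ∈ Z, ∀ b ∈ Z, a * b = b * a := fun a ha b hb => hZc a ha b (hZQm hb)
  -- the choice of the weight
  obtain ⟨g₁, hg₁, hg₁Z⟩ := hznt
  obtain ⟨c, hc⟩ : ∃ c, c = z * g₁ * z⁻¹ * g₁⁻¹ := ⟨_, rfl⟩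
  rw [← hc] at hg₁Z
  have hcQm : c ∈ Qm := by
    rw [hc]; exact Qm.mul_mem (hQ'Qm z hzQ' g₁ hg₁) (Qm.inv_mem hg₁)
  obtain ⟨h₁, hh₁, hch₁⟩ : ∃ h ∈ Qm, c * h ≠ h * c := by
    by_contra hno
    push Not at hno
    exact hg₁Z (hZall c hcQm hno)
  obtain ⟨d, hd⟩ : ∃ d, d = c * h₁ * c⁻¹ * h₁⁻¹ := ⟨_, rfl⟩
  have hdZ : d ∈ Z := by rw [hd]; exact hcomm c hcQm h₁ hh₁
  have hd1 : d ≠ 1 := by
    intro h
    apply hch₁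
    rw [hd] at h
    have h2 := mul_inv_eq_one.1 h
    rw [mul_inv_eq_iff_eq_mul] at h2
    exact h2
  have hρd : ρ d ≠ 1 := fun h => hd1 (hfaith d (hZQm hdZ) h)
  obtain ⟨w, hw⟩ : ∃ w, ρ d w ≠ w := by
    by_contra hno
    push Not at hno
    exact hρd (LinearMap.ext hno)
  obtain ⟨S, hS⟩ := exists_wt_decomp ρ Z hZcomm hZk w
  obtain ⟨χ, -, hχ⟩ : ∃ χ ∈ S, ρ d (wtProj ρ Z χ w) ≠ wtProj ρ Z χ w := by
    by_contra hno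
    push Not at hno
    apply hw
    rw [hS, map_sum]
    exact Finset.sum_congr rfl hno
  obtain ⟨w₀, hw₀⟩ : ∃ w₀, w₀ = wtProj ρ Z χ w := ⟨_, rfl⟩
  rw [← hw₀] at hχ
  have hw₀M : w₀ ∈ wtSpace ρ Z χ := by rw [hw₀]; exact wtProj_apply_mem ρ Z χ w
  have hw₀0 : w₀ ≠ 0 := by
    intro h
    apply hχ
    rw [h, map_zero]
  obtain ⟨M, hM⟩ : ∃ M : Submodule k W, M = wtSpace ρ Z χ := ⟨_, rfl⟩
  have hw₀M' : w₀ ∈ M := by rw [hM]; exact hw₀M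
  have hZact : ∀ a (ha : a ∈ Z), ∀ w ∈ M, ρ a w = ((χ ⟨a, ha⟩ : kˣ) : k) • w := by
    intro a ha w hw
    rw [hM] at hw
    exact hw ⟨a, ha⟩
  -- the character as a function on `Γ`
  obtain ⟨χ', hχ'⟩ : ∃ χ' : Γ → kˣ, ∀ a (ha : a ∈ Z), χ' a = χ ⟨a, ha⟩ :=
    ⟨fun a => if ha : a ∈ Z then χ ⟨a, ha⟩ else 1, fun a ha => dif_pos ha⟩
  have hχ'mul : ∀ a ∈ Z, ∀ b ∈ Z, χ' (a * b) = χ' a * χ' b := by
    intro a ha b hb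
    rw [hχ' _ (Z.mul_mem ha hb), hχ' a ha, hχ' b hb, ← map_mul]
    rfl
  have hχ'act : ∀ a ∈ Z, ∀ w ∈ M, ρ a w = ((χ' a : kˣ) : k) • w := by
    intro a ha w hw
    rw [hχ' a ha]
    exact hZact a ha w hw
  have hχ'one : ∀ a ∈ Z, (χ' a = 1 ↔ ∀ w ∈ M, ρ a w = w) := by
    intro a ha
    constructor
    · intro h w hw
      rw [hχ'act a ha w hw, h, Units.val_one, one_smul]
    · intro h
      have h1 := hχ'act a ha w₀ hw₀M'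
      rw [h w₀ hw₀M'] at h1
      have h2 : ((1 : k) - ((χ' a : kˣ) : k)) • w₀ = 0 := by
        rw [sub_smul, one_smul, ← h1, sub_self]
      rcases smul_eq_zero.1 h2 with h3 | h3
      · apply Units.ext
        rw [Units.val_one]
        exact (sub_eq_zero.1 h3).symm
      · exact absurd h3 hw₀0
  have hχ'd : χ' d ≠ 1 := by
    intro h
    apply hχ
    exact (hχ'one d hdZ).1 h w₀ hw₀M'
  have hCm : CentChar Qm Z χ' := ⟨hZc, hcomm, hχ'mul⟩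
  have hC₀ : CentChar Q₀ Z χ' :=
    ⟨fun a ha g hg => hZc a ha g (hQ₀Qm hg),
      fun g hg h hh => hcomm g (hQ₀Qm hg) h (hQ₀Qm hh), hχ'mul⟩
  -- stabilizers
  have hcstab : ∀ g : Γ, (∀ a ∈ Z, g * a = a * g) → g ∈ charStab Z χ := by
    intro g hcg
    have hgn : g ∈ Subgroup.normalizer (Z : Set Γ) := by
      apply mem_normalizer_of_conj_mem Z g
      intro a ha
      rw [hcg a ha, mul_inv_cancel_right]
      exact ha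
    exact mem_charStab_of hgn (conjChar_of_commute Z g hgn hcg χ)
  have hQmstab : ∀ g ∈ Qm, g ∈ charStab Z χ :=
    fun g hg => hcstab g (fun a ha => (hZc a ha g hg).symm)
  have hymem : s ^ (2 ^ (n - 1)) ∈ charStab Z χ := by rw [← ht]; exact hcstab t htZ
  obtain ⟨j, hjn, hjmem, hjout⟩ :=
    exists_min_pow_mem Nat.prime_two (charStab Z χ) s n hs (n - 1) hymem
  obtain ⟨x₁, hx₁⟩ : ∃ x₁, x₁ = s ^ (2 ^ j) := ⟨_, rfl⟩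
  obtain ⟨e, he⟩ : ∃ e, e = n - j := ⟨_, rfl⟩
  have he1 : 1 ≤ e := by omega
  have hx₁e : x₁ ^ (2 ^ e) = 1 := by
    rw [hx₁, ← pow_mul, ← pow_add, he]
    have : j + (n - j) = n := by omega
    rw [this, hs]
  have hx₁t : x₁ ^ (2 ^ (e - 1)) = t := by
    rw [hx₁, ← pow_mul, ← pow_add, he, ht]
    congr 2
    omega
  have hx₁stab : x₁ ∈ charStab Z χ := by rw [hx₁]; exact hjmem
  have hxχ : ∀ a ∈ Z, χ' (x₁ * a * x₁⁻¹) = χ' a := by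
    intro a ha
    obtain ⟨hg, hconj⟩ := hx₁stab
    have hmem : x₁ * a * x₁⁻¹ ∈ Z := (Subgroup.mem_normalizer_iff.1 hg a).1 ha
    have h1 : conjChar Z x₁ hg χ ⟨x₁ * a * x₁⁻¹, hmem⟩ = χ ⟨x₁ * a * x₁⁻¹, hmem⟩ := by
      rw [hconj]
    rw [conjChar_apply' Z x₁ hg χ ⟨x₁ * a * x₁⁻¹, hmem⟩ ⟨a, ha⟩
      (by show a = x₁⁻¹ * (x₁ * a * x₁⁻¹) * x₁; group)] at h1
    rw [hχ' _ hmem, hχ' a ha]
    exact h1.symm
  have hMQm : ∀ g ∈ Qm, ∀ w ∈ M, ρ g w ∈ M := by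
    intro g hg w hw
    rw [hM] at hw ⊢
    exact rho_mem_wtSpace_of_mem_charStab ρ Z χ g (hQmstab g hg) w hw
  have hMQ₀ : ∀ g ∈ Q₀, ∀ w ∈ M, ρ g w ∈ M := fun g hg => hMQm g (hQ₀Qm hg)
  have hMx : ∀ w ∈ M, ρ x₁ w ∈ M := by
    intro w hw
    rw [hM] at hw ⊢
    exact rho_mem_wtSpace_of_mem_charStab ρ Z χ x₁ hx₁stab w hw
  have hfixM : ∀ w ∈ M, ρ x₁ w = w → w = 0 := by
    intro w hw hxw
    rw [hM] at hw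
    rw [hx₁] at hxw
    exact orb_cyc ρ Z hZk s hsZn hfix χ (2 ^ j) (pow_pos (by norm_num) j) hjout w hw hxw
  -- normalizing `Q₀`
  have hx₁Qm : ∀ g ∈ Qm, x₁ * g * x₁⁻¹ ∈ Qm := by rw [hx₁]; exact hpowQm _
  have hx₁Q' : ∀ h ∈ Q', x₁ * h * x₁⁻¹ ∈ Q' := by rw [hx₁]; exact hpowQ' _
  have hx₁tc : x₁ * t = t * x₁ := by rw [hx₁, ht, ← pow_add, ← pow_add, add_comm]
  have hnormQ₀ : ∀ u : Γ, u * t = t * u → (∀ g ∈ Qm, u * g * u⁻¹ ∈ Qm) →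
      ∀ g ∈ Q₀, u * g * u⁻¹ ∈ Q₀ := by
    intro u hut huQm g hg
    have hle : Q₀ ≤ Q₀.comap (MulAut.conj u).toMonoidHom := by
      refine hQ₀gen.trans ?_
      rw [Subgroup.closure_le]
      rintro _ ⟨g', hg', rfl⟩
      rw [SetLike.mem_coe, Subgroup.mem_comap]
      change u * (t * g' * t⁻¹ * g'⁻¹) * u⁻¹ ∈ Q₀
      have hutu : u * t * u⁻¹ = t := by rw [hut, mul_inv_cancel_right]
      have e1 : u * (t * g' * t⁻¹ * g'⁻¹) * u⁻¹ =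
          (u * t * u⁻¹) * (u * g' * u⁻¹) * (u * t * u⁻¹)⁻¹ * (u * g' * u⁻¹)⁻¹ := by group
      rw [e1, hutu]
      exact hQ₀mem _ (huQm g' hg')
    exact hle hg
  have hx₁Q₀ : ∀ g ∈ Q₀, x₁ * g * x₁⁻¹ ∈ Q₀ := hnormQ₀ x₁ hx₁tc hx₁Qm
  have hzQ₀c : ∀ g ∈ Q₀, z * g * z⁻¹ ∈ Q₀ := hnormQ₀ z hzt.symm (hQ'Qm z hzQ')
  have htQ₀ : ∀ g ∈ Q₀, t * g * t⁻¹ ∈ Q₀ := hnormQ₀ t rfl htQm
  have hx₁Q₀n : x₁ ∈ Subgroup.normalizer (Q₀ : Set Γ) :=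
    mem_normalizer_of_conj_mem Q₀ x₁ hx₁Q₀
  have hQ₀p : IsPGroup q Q₀ := hQm.to_le hQ₀Qm
  -- `Q₀ = [Q₀, t]`
  have hQ₀gen' : Q₀ ≤ Subgroup.closure {y | ∃ g ∈ Q₀, y = t * g * t⁻¹ * g⁻¹} := by
    refine hQ₀gen.trans ?_
    apply Subgroup.closure_mono
    rintro _ ⟨g, hg, rfl⟩
    obtain ⟨c', hc', hc't, g₀, hg₀, rfl⟩ := hdec g hg
    refine ⟨g₀, hg₀, ?_⟩
    have h1 : t * c' * t⁻¹ = c' := by rw [hc't, mul_inv_cancel_right]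
    have h2 := hCQm c' hc' hc't _ (hQ₀mem g₀ (hQ₀Qm hg₀))
    calc t * (c' * g₀) * t⁻¹ * (c' * g₀)⁻¹
        = (t * c' * t⁻¹) * (t * g₀ * t⁻¹ * g₀⁻¹) * c'⁻¹ := by group
      _ = c' * (t * g₀ * t⁻¹ * g₀⁻¹) * c'⁻¹ := by rw [h1]
      _ = t * g₀ * t⁻¹ * g₀⁻¹ := by rw [h2, mul_inv_cancel_right]
  -- the radical of `Q₀` lies in the radical of `Q_m`
  have hRY : ∀ g ∈ hC₀.radical, g ∈ hCm.radical := by
    intro g hg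
    rw [CentChar.mem_radical] at hg ⊢
    refine ⟨hQ₀Qm hg.1, fun h hh => ?_⟩
    obtain ⟨c', hc', hc't, h₀, hh₀, rfl⟩ := hdec h hh
    have h1 := hCQm c' hc' hc't g hg.1
    have h2 := hCQm c' hc' hc't _
      (Q₀.mul_mem (Q₀.mul_mem (Q₀.mul_mem hg.1 hh₀) (Q₀.inv_mem hg.1)) (Q₀.inv_mem hh₀))
    have e1 : g * (c' * h₀) * g⁻¹ * (c' * h₀)⁻¹ = g * h₀ * g⁻¹ * h₀⁻¹ := by
      calc g * (c' * h₀) * g⁻¹ * (c' * h₀)⁻¹ = (g * c') * h₀ * g⁻¹ * h₀⁻¹ * c'⁻¹ := by group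
        _ = (c' * g) * h₀ * g⁻¹ * h₀⁻¹ * c'⁻¹ := by rw [h1]
        _ = c' * (g * h₀ * g⁻¹ * h₀⁻¹) * c'⁻¹ := by group
        _ = g * h₀ * g⁻¹ * h₀⁻¹ := by rw [h2, mul_inv_cancel_right]
    rw [e1]
    exact hg.2 h₀ hh₀
  -- step 5 as a contradiction
  have hcY : c ∉ hCm.radical := by
    intro h
    rw [CentChar.mem_radical] at h
    exact hχ'd (by rw [hd]; exact h.2 h₁ hh₁)
  have hB : (∀ v ∈ Q₀, v ∈ Qm → z * v * z⁻¹ * v⁻¹ ∈ hCm.radical) → False := by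
    intro hzQ₀
    apply hcY
    rw [hc]
    exact tower_B t z q q' hq hq' hq2 hqq' Qm Z Q₀ Q' hQm hQ' htt htQm hQ'Qm χ' hCm htZ hQ'Z
      hQ₀mem hQ'gen hzQ' hzt hzc hzQ₀ g₁ hg₁
  have hQ₀Y : ¬ (∀ g ∈ Q₀, g ∈ hCm.radical) := by
    intro h
    apply hB
    intro v hv _
    exact h _ (Q₀.mul_mem (hzQ₀c v hv) (Q₀.inv_mem hv))
  -- the hypotheses of Lemma PP
  have hsc : ∀ g ∈ Q₀, ∀ h ∈ Q₀, ∃ c : k, ∀ w ∈ M, ρ (g * h * g⁻¹ * h⁻¹) w = c • w :=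
    fun g hg h hh => ⟨_, hχ'act _ (hcomm g (hQ₀Qm hg) h (hQ₀Qm hh))⟩
  have hCy : ∀ c ∈ Q₀, x₁ ^ (2 ^ (e - 1)) * c = c * x₁ ^ (2 ^ (e - 1)) →
      ∀ g ∈ Q₀, c * g = g * c := by
    rw [hx₁t]; exact hCQ₀
  have hnt : ∃ g ∈ Q₀, ∃ w ∈ M,
      ρ (x₁ ^ (2 ^ (e - 1)) * g * (x₁ ^ (2 ^ (e - 1)))⁻¹) w ≠ ρ g w := by
    rw [hx₁t]
    by_contra hno
    push Not at hno
    apply hQ₀Y
    -- `Q₀` acts trivially on `M`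
    have htriv : ∀ g ∈ Q₀, ∀ w ∈ M, ρ g w = w := by
      let K : Subgroup Γ :=
        { carrier := {g | ∀ w ∈ M, ρ g w = w}
          one_mem' := fun w _ => by rw [map_one, Module.End.one_apply]
          mul_mem' := fun {a b} ha hb w hw => by
            rw [map_mul, Module.End.mul_apply, hb w hw, ha w hw]
          inv_mem' := fun {a} ha w hw => by
            have h1 := rho_inv_apply ρ a w
            rw [ha w hw] at h1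
            exact h1 }
      have hle : Q₀ ≤ K := by
        refine hQ₀gen'.trans ?_
        rw [Subgroup.closure_le]
        rintro _ ⟨g, hg, rfl⟩
        intro w hw
        have h1 := hno g hg (ρ g⁻¹ w) (hMQ₀ g⁻¹ (Q₀.inv_mem hg) w hw)
        rw [rho_apply_inv] at h1
        have e1 : t * g * t⁻¹ * g⁻¹ = (t * g * t⁻¹) * g⁻¹ := rfl
        rw [e1, map_mul, Module.End.mul_apply]
        exact h1
      intro g hg w hw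
      exact hle hg w hw
    intro g hg
    rw [CentChar.mem_radical]
    refine ⟨hQ₀Qm hg, fun h hh => ?_⟩
    rw [hχ'one _ (hcomm g (hQ₀Qm hg) h hh)]
    intro w hw
    have hw1 : ρ h⁻¹ w ∈ M := hMQm h⁻¹ (Qm.inv_mem hh) w hw
    have e1 : g * h * g⁻¹ * h⁻¹ = g * (h * (g⁻¹ * h⁻¹)) := by group
    rw [e1, map_mul, map_mul, map_mul, Module.End.mul_apply, Module.End.mul_apply,
      Module.End.mul_apply, htriv g⁻¹ (Q₀.inv_mem hg) _ hw1, rho_apply_inv, htriv g hg w hw]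
  obtain ⟨R, hRdef⟩ : ∃ R : Subgroup Γ, R = hC₀.radical := ⟨_, rfl⟩
  have hR : ∀ g, g ∈ R ↔ g ∈ Q₀ ∧ ∀ h ∈ Q₀, ∀ w ∈ M, ρ (g * h * g⁻¹ * h⁻¹) w = w := by
    intro g
    rw [hRdef, CentChar.mem_radical]
    constructor
    · rintro ⟨hg, h⟩
      exact ⟨hg, fun h' hh' => (hχ'one _ (hcomm g (hQ₀Qm hg) h' (hQ₀Qm hh'))).1 (h h' hh')⟩
    · rintro ⟨hg, h⟩
      exact ⟨hg, fun h' hh' => (hχ'one _ (hcomm g (hQ₀Qm hg) h' (hQ₀Qm hh'))).2 (h h' hh')⟩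
  obtain ⟨e', he'1, he'e, hidx, hD2⟩ :=
    Cfsg.Agent.Helper9.GrossBr.shult_index_pp_gen ρ Nat.prime_two hq hq2 h2k hqk Q₀ hQ₀p x₁ e he1 hx₁e hx₁Q₀n M hMQ₀ hMx hsc
      hfixM hCy hnt R hR
  -- arithmetic: `q + 1 = 2 ^ e'`
  obtain ⟨b, hb⟩ := (IsPGroup.iff_card).1 hQ₀p
  have hdvd : R.relIndex Q₀ ∣ q ^ b := by
    rw [← hb]
    exact Subgroup.index_dvd_card _
  obtain ⟨a, -, ha⟩ := (Nat.dvd_prime_pow hq).1 hdvd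
  have hqe : q + 1 = 2 ^ e' := by
    apply mersenne_of_sq_eq_prime_pow hq hD2 (a := a)
    rw [← hidx, ha]
  have hidx' : (hC₀.radical).relIndex Q₀ = q ^ 2 := by
    rw [← hRdef, hidx]
    congr 1
    omega
  -- `t` inverts `Q₀` modulo its radical
  have hcentR : ∀ c ∈ Q₀, (∀ g ∈ Q₀, c * g = g * c) → c ∈ hC₀.radical := by
    intro c hc hcg
    rw [CentChar.mem_radical]
    refine ⟨hc, fun h hh => ?_⟩
    rw [hcg h hh, mul_inv_cancel_right, mul_inv_cancel, hC₀.map_one]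
  have htinv : ∀ g ∈ Q₀, g * (t * g * t⁻¹) ∈ hC₀.radical := by
    intro g hg
    obtain ⟨b', hb'⟩ : ∃ b', b' = t * g * t⁻¹ := ⟨_, rfl⟩
    have hbQ₀ : b' ∈ Q₀ := by rw [hb']; exact htQ₀ g hg
    have htb : t * b' * t⁻¹ = g := by
      rw [hb', hti]
      calc t * (t * g * t) * t = (t * t) * g * (t * t) := by group
        _ = g := by rw [htt, one_mul, mul_one]
    rw [← hb']
    obtain ⟨cc, hcc⟩ : ∃ cc, cc = b'⁻¹ * g⁻¹ * (b'⁻¹)⁻¹ * (g⁻¹)⁻¹ := ⟨_, rfl⟩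
    have hccZ : cc ∈ Z := by
      rw [hcc]
      exact hcomm _ (hQ₀Qm (Q₀.inv_mem hbQ₀)) _ (hQ₀Qm (Q₀.inv_mem hg))
    have hccQ₀ : cc ∈ Q₀ := by
      rw [hcc]
      exact Q₀.mul_mem (Q₀.mul_mem (Q₀.mul_mem (Q₀.inv_mem hbQ₀) (Q₀.inv_mem hg))
        (Q₀.inv_mem (Q₀.inv_mem hbQ₀))) (Q₀.inv_mem (Q₀.inv_mem hg))
    have huQ₀ : g * b' ∈ Q₀ := Q₀.mul_mem hg hbQ₀
    have h1 : t * (g * b') * t⁻¹ = (g * b') * cc := by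
      have e1 : t * (g * b') * t⁻¹ = (t * g * t⁻¹) * (t * b' * t⁻¹) := by group
      rw [e1, htb, ← hb', hcc]
      group
    have h2 : t * (g * b') * t⁻¹ * (g * b')⁻¹ = cc := by
      rw [h1]
      have h3 := hZc cc hccZ (g * b') (hQ₀Qm huQ₀)
      rw [← h3, mul_inv_cancel_right]
    -- the fixed point in the coset
    obtain ⟨Z₁, hZ₁⟩ : ∃ Z₁ : Subgroup Γ, Z₁ = Z ⊓ Q₀ := ⟨_, rfl⟩
    have hZ₁mem : ∀ a, a ∈ Z₁ ↔ a ∈ Z ∧ a ∈ Q₀ := by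
      intro a; rw [hZ₁]; exact Subgroup.mem_inf
    have hZ₁t : ∀ a ∈ Z₁, t * a * t⁻¹ ∈ Z₁ := by
      intro a ha
      rw [htZ a ((hZ₁mem a).1 ha).1, mul_inv_cancel_right]
      exact ha
    have hZ₁cop : ¬ 2 ∣ Nat.card Z₁ := by
      have hZ₁p : IsPGroup q Z₁ := hZp.to_le (fun a ha => ((hZ₁mem a).1 ha).1)
      obtain ⟨m, hm⟩ := (IsPGroup.iff_card).1 hZ₁p
      rw [hm]
      intro h
      have h3 := Nat.prime_two.dvd_of_dvd_pow h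
      exact hq2 ((Nat.prime_dvd_prime_iff_eq Nat.prime_two hq).1 h3).symm
    have ht2 : t ^ 2 = 1 := by rw [pow_two]; exact htt
    have hmemZ₁ : t * (g * b') * t⁻¹ * (g * b')⁻¹ ∈ Z₁ := by
      rw [h2, hZ₁mem]; exact ⟨hccZ, hccQ₀⟩
    obtain ⟨z₁, hz₁, hz₁fix⟩ :=
      Cfsg.Agent.Helper3.Shult.exists_fixed_in_coset (p := 2) t ht2 Z₁ hZ₁t hZ₁cop (g * b') hmemZ₁
    have hz₁Q₀ : z₁ ∈ Q₀ := ((hZ₁mem z₁).1 hz₁).2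
    have hz₁Z : z₁ ∈ Z := ((hZ₁mem z₁).1 hz₁).1
    have h4 : z₁ * (g * b') ∈ hC₀.radical := by
      apply hcentR _ (Q₀.mul_mem hz₁Q₀ huQ₀)
      apply hCQ₀ _ (Q₀.mul_mem hz₁Q₀ huQ₀)
      exact mul_inv_eq_iff_eq_mul.1 hz₁fix
    have h5 : z₁ ∈ hC₀.radical :=
      hcentR z₁ hz₁Q₀ (fun g' hg' => hZc z₁ hz₁Z g' (hQ₀Qm hg'))
    have e2 : g * b' = z₁⁻¹ * (z₁ * (g * b')) := by group
    rw [e2]
    exact Subgroup.mul_mem _ (Subgroup.inv_mem _ h5) h4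
  -- step 6
  have hzR := tower_A t x₁ z e e' he1 hx₁t q q' hq hq' hq'2 hqq' hqe he'e Q₀ Z Q' hQ' χ' hC₀
    hx₁Q₀ hxχ hx₁Q' hQ'Z htinv hidx' hzQ' hzQ₀c
  exact hB (fun v hv _ => hRY _ (hzR v hv))

end Cfsg.Agent.Helper9.Gross2
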