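import Mathlib
import Cfsg.Agent.Helper2.G2Quot
import Cfsg.Agent.Helper3.G2Orb
import Cfsg.Agent.Helper3.ShHHmin
import Cfsg.Agent.Helper3.ShCliffordC
import Cfsg.Agent.Helper9.Gross2.AuxL

/-!
S3795 (Gross, `p = 2`), Tower Theorem, step 2: the image `G'` of `Q' = [Q', t]` in the automorphism
group of `V' = P / Z(P)` is special with `Z(G') = C_{G'}(t)` (helper3's `Cfg`), so there is
`z ∈ C_{Q'}(t)`, non-trivial on `V'`, central in `Q'` modulo the kernel of the action on `V'`.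
-/

set_option autoImplicit false
set_option linter.style.haveILetI false

namespace Cfsg.Agent.Helper9.Gross2

open Cfsg.Agent.Helper2.G2 Cfsg.Agent.Helper3.G2Orb

set_option maxHeartbeats 2000000 in
theorem step_two {Γ : Type*} [Group Γ] [Finite Γ] (s : Γ) (n : ℕ) (hs : s ^ (2 ^ n) = 1)
    {q q' : ℕ} (hq : q.Prime) (hq' : q'.Prime) (hqq : q' ≠ q) (hq2 : q ≠ 2) (hq'2 : q' ≠ 2)
    (P Z Q' : Subgroup Γ) (hP : IsPGroup q P) (hQ' : IsPGroup q' Q')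
    (hZ : ∀ c, c ∈ Z ↔ c ∈ P ∧ ∀ w ∈ P, c * w = w * c)
    (hcl2 : ∀ u ∈ P, ∀ v ∈ P, u * v * u⁻¹ * v⁻¹ ∈ Z) (hexp : ∀ u ∈ P, u ^ q ∈ Z)
    (hQ'P : ∀ g ∈ Q', ∀ v ∈ P, g * v * g⁻¹ ∈ P) (hsP : ∀ v ∈ P, s * v * s⁻¹ ∈ P)
    (hsQ' : ∀ g ∈ Q', s * g * s⁻¹ ∈ Q')
    (hfpfP : ∀ v ∈ P, s * v * s⁻¹ = v → v = 1)
    (hgen : Q' ≤ Subgroup.closure
      {u | ∃ g ∈ Q', u = s ^ (2 ^ (n - 1)) * g * (s ^ (2 ^ (n - 1)))⁻¹ * g⁻¹})
    (hnt : ∃ g ∈ Q', ∃ v ∈ P, g * v * g⁻¹ * v⁻¹ ∉ Z) :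
    ∃ z ∈ Q', s ^ (2 ^ (n - 1)) * z = z * s ^ (2 ^ (n - 1)) ∧
      (∃ v ∈ P, z * v * z⁻¹ * v⁻¹ ∉ Z) ∧
      ∀ g ∈ Q', ∀ v ∈ P, (g * z * g⁻¹ * z⁻¹) * v * (g * z * g⁻¹ * z⁻¹)⁻¹ * v⁻¹ ∈ Z := by
  classical
  haveI : Fact q.Prime := ⟨hq⟩
  haveI : Fact q'.Prime := ⟨hq'⟩
  haveI : Fact (2 : ℕ).Prime := ⟨Nat.prime_two⟩
  -- `n ≥ 1`
  have hn : 1 ≤ n := by
    by_contra h
    have hn0 : n = 0 := by omega
    subst hn0
    have hs1 : s = 1 := by simpa using hs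
    obtain ⟨g, hg, v, hv, hgv⟩ := hnt
    have hv1 : v = 1 := hfpfP v hv (by rw [hs1]; group)
    apply hgv
    rw [hv1]
    have e : g * 1 * g⁻¹ * (1 : Γ)⁻¹ = 1 := by group
    rw [e]
    exact Z.one_mem
  obtain ⟨t, ht⟩ : ∃ t, t = s ^ (2 ^ (n - 1)) := ⟨_, rfl⟩
  rw [← ht] at hgen ⊢
  have htt : t * t = 1 := by
    rw [ht, ← pow_add, ← two_mul, ← pow_succ', Nat.sub_add_cancel hn, hs]
  have ht2 : t ^ 2 = 1 := by rw [pow_two]; exact htt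
  have hZP : Z ≤ P := fun c hc => ((hZ c).1 hc).1
  have hZc : ∀ a ∈ Z, ∀ g ∈ P, a * g = g * a := fun a ha g hg => ((hZ a).1 ha).2 g hg
  have hZinv : ∀ u : Γ, (∀ v ∈ P, u * v * u⁻¹ ∈ P) → (∀ v ∈ P, u⁻¹ * v * u ∈ P) →
      ∀ a ∈ Z, u * a * u⁻¹ ∈ Z := by
    intro u h1 h2 a ha
    rw [hZ]
    refine ⟨h1 a (hZP ha), fun w hw => ?_⟩
    have h3 := hZc a ha _ (h2 w hw)
    calc u * a * u⁻¹ * w = u * (a * (u⁻¹ * w * u)) * u⁻¹ := by group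
      _ = u * ((u⁻¹ * w * u) * a) * u⁻¹ := by rw [h3]
      _ = w * (u * a * u⁻¹) := by group
  have hsecN : ∀ u : Γ, (∀ v ∈ P, u * v * u⁻¹ ∈ P) → u ∈ secNorm P Z := by
    intro u h
    have hn' : u ∈ Subgroup.normalizer (P : Set Γ) := (mem_secNorm.1 (mem_secNorm_of_conj h h)).1
    exact mem_secNorm_of_conj h (hZinv u h (fun v hv => conj_inv_mem_of_normalizer hn' hv))
  haveI hZn : (Z.subgroupOf P).Normal := by
    apply subgroupOf_normal_of_conj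
    intro g hg v hv _
    rw [← hZc v hv g hg, mul_inv_cancel_right]
    exact hv
  have hpowP : ∀ i : ℕ, ∀ v ∈ P, s ^ i * v * (s ^ i)⁻¹ ∈ P :=
    Cfsg.Agent.Helper3.Shult.conj_pow_mem P s hsP
  have hpowQ' : ∀ i : ℕ, ∀ g ∈ Q', s ^ i * g * (s ^ i)⁻¹ ∈ Q' :=
    Cfsg.Agent.Helper3.Shult.conj_pow_mem Q' s hsQ'
  have htP : ∀ v ∈ P, t * v * t⁻¹ ∈ P := by rw [ht]; exact hpowP _
  have htQ' : ∀ g ∈ Q', t * g * t⁻¹ ∈ Q' := by rw [ht]; exact hpowQ' _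
  have hsN : s ∈ secNorm P Z := hsecN s hsP
  have htN : t ∈ secNorm P Z := hsecN t htP
  have hQ'N : ∀ g ∈ Q', g ∈ secNorm P Z := fun g hg => hsecN g (hQ'P g hg)
  obtain ⟨φ, hφ⟩ : ∃ φ : ↥(secNorm P Z) →* MulAut (↥P ⧸ Z.subgroupOf P), φ = quotAct P Z :=
    ⟨_, rfl⟩
  have hφmk : ∀ (u : Γ) (hu : u ∈ secNorm P Z) (v : Γ) (hv : v ∈ P),
      ∃ hv' : u * v * u⁻¹ ∈ P, φ ⟨u, hu⟩ (QuotientGroup.mk ⟨v, hv⟩) =
        QuotientGroup.mk ⟨u * v * u⁻¹, hv'⟩ := by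
    intro u hu v hv
    refine ⟨conj_mem_of_normalizer (mem_secNorm.1 hu).1 hv, ?_⟩
    rw [hφ]
    exact quotAct_mk' P Z ⟨u, hu⟩ v hv
  have hφone : ∀ (u : Γ) (hu : u ∈ secNorm P Z),
      φ ⟨u, hu⟩ = 1 ↔ ∀ v ∈ P, u * v * u⁻¹ * v⁻¹ ∈ Z := by
    intro u hu
    rw [hφ]
    exact quotAct_eq_one_iff P Z ⟨u, hu⟩
  have hφeq : ∀ (u₁ u₂ : ↥(secNorm P Z)), (u₁ : Γ) = (u₂ : Γ) → φ u₁ = φ u₂ :=
    fun u₁ u₂ h => congrArg φ (Subtype.ext h)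
  -- `V'` is elementary abelian
  have hcommV : ∀ a b : ↥P ⧸ Z.subgroupOf P, a * b = b * a := by
    intro a b
    induction a using QuotientGroup.induction_on with
    | H u =>
      induction b using QuotientGroup.induction_on with
      | H v =>
        rw [← QuotientGroup.mk_mul, ← QuotientGroup.mk_mul, mk_eq_mk_iff]
        have h1 := hcl2 _ (P.inv_mem v.2) _ (P.inv_mem u.2)
        have e : ((u * v : ↥P) : Γ)⁻¹ * ((v * u : ↥P) : Γ) =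
            (v : Γ)⁻¹ * (u : Γ)⁻¹ * ((v : Γ)⁻¹)⁻¹ * ((u : Γ)⁻¹)⁻¹ := by
          rw [Subgroup.coe_mul, Subgroup.coe_mul]; group
        rw [e]
        exact h1
  have hV : ∀ v : ↥P ⧸ Z.subgroupOf P, v ^ q = 1 := by
    intro v
    induction v using QuotientGroup.induction_on with
    | H u =>
      rw [← QuotientGroup.mk_pow, mk_eq_one_iff, Subgroup.coe_pow]
      exact hexp u u.2
  -- the automorphism `σ`
  obtain ⟨σ, hσdef⟩ : ∃ σ, σ = φ ⟨s, hsN⟩ := ⟨_, rfl⟩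
  have hσpow : ∀ i : ℕ, σ ^ i = φ ⟨s ^ i, Subgroup.pow_mem _ hsN i⟩ := by
    intro i
    rw [hσdef, ← map_pow]
    apply hφeq
    rw [Subgroup.coe_pow]
  have hσ2n : σ ^ (2 ^ n) = 1 := by
    rw [hσpow]
    have : (⟨s ^ (2 ^ n), Subgroup.pow_mem _ hsN _⟩ : ↥(secNorm P Z)) = 1 := Subtype.ext hs
    rw [this, map_one]
  have hZs : ∀ a ∈ Z, s * a * s⁻¹ ∈ Z :=
    fun a ha => conj_mem_of_normalizer (mem_secNorm.1 hsN).2 ha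
  have hZodd : ¬ 2 ∣ Nat.card Z := by
    obtain ⟨m, hm⟩ := (IsPGroup.iff_card).1 (hP.to_le hZP)
    rw [hm]
    intro h
    have h3 := Nat.prime_two.dvd_of_dvd_pow h
    exact hq2 ((Nat.prime_dvd_prime_iff_eq Nat.prime_two hq).1 h3).symm
  have hσfpf : ∀ v : ↥P ⧸ Z.subgroupOf P, σ v = v → v = 1 := by
    intro v hv
    induction v using QuotientGroup.induction_on with
    | H u =>
      rcases u with ⟨u, hu⟩
      obtain ⟨hu', hσu⟩ := hφmk s hsN u hu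
      rw [hσdef, hσu, mk_eq_mk_iff] at hv
      have h2 : u⁻¹ * (s * u * s⁻¹) ∈ Z := by
        have h0 := Z.inv_mem hv
        have e : ((s * u * s⁻¹)⁻¹ * u)⁻¹ = u⁻¹ * (s * u * s⁻¹) := by group
        change ((s * u * s⁻¹)⁻¹ * u)⁻¹ ∈ Z at h0
        rwa [e] at h0
      have h1 : s * u * s⁻¹ * u⁻¹ ∈ Z := by
        have h3 := hZc _ h2 u hu
        have e : s * u * s⁻¹ * u⁻¹ = u * (u⁻¹ * (s * u * s⁻¹)) * u⁻¹ := by group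
        rw [e, ← h3, mul_inv_cancel_right]
        exact h2
      obtain ⟨z₀, hz₀, hfix⟩ := exists_fixed_in_coset_pow (p := 2) s n hs Z hZs hZodd u h1
      have h4 := hfpfP _ (P.mul_mem (hZP hz₀) hu) hfix
      rw [mk_eq_one_iff]
      have h5 : u = z₀⁻¹ := eq_inv_of_mul_eq_one_right h4
      change u ∈ Z
      rw [h5]
      exact Z.inv_mem hz₀
  -- the group `G'`
  obtain ⟨G, hGdef⟩ : ∃ G : Subgroup (MulAut (↥P ⧸ Z.subgroupOf P)),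
      G = Subgroup.map φ (Q'.subgroupOf (secNorm P Z)) := ⟨_, rfl⟩
  have hGmem : ∀ h (hh : h ∈ Q'), φ ⟨h, hQ'N h hh⟩ ∈ G := by
    intro h hh
    rw [hGdef]
    exact Subgroup.mem_map.2 ⟨⟨h, hQ'N h hh⟩, Subgroup.mem_subgroupOf.2 hh, rfl⟩
  have hGmem' : ∀ η ∈ G, ∃ h, ∃ hh : h ∈ Q', η = φ ⟨h, hQ'N h hh⟩ := by
    intro η hη
    rw [hGdef] at hη
    obtain ⟨u, hu, rfl⟩ := Subgroup.mem_map.1 hη
    exact ⟨u.1, Subgroup.mem_subgroupOf.1 hu, rfl⟩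
  have hGp : IsPGroup q' G := by
    rw [hGdef]
    exact IsPGroup.map (hQ'.comap_subtype) φ
  have hσG : ∀ η ∈ G, σ * η * σ⁻¹ ∈ G := by
    intro η hη
    obtain ⟨h, hh, rfl⟩ := hGmem' η hη
    rw [hσdef, ← map_inv, ← map_mul, ← map_mul]
    have := hGmem (s * h * s⁻¹) (hsQ' h hh)
    have e : φ (⟨s, hsN⟩ * ⟨h, hQ'N h hh⟩ * ⟨s, hsN⟩⁻¹) =
        φ ⟨s * h * s⁻¹, hQ'N _ (hsQ' h hh)⟩ := hφeq _ _ rfl
    rw [e]
    exact this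
  have c := cfg_of_aut q q' hq' hq'2 hqq (↥P ⧸ Z.subgroupOf P) hcommV hV σ n hn hσ2n hσfpf G
    hGp hσG
  obtain ⟨τ, hτdef⟩ : ∃ τ, τ = σ ^ (2 ^ (n - 1)) := ⟨_, rfl⟩
  rw [← hτdef] at c
  have hτφ : τ = φ ⟨t, htN⟩ := by
    rw [hτdef, hσpow]
    apply hφeq
    exact ht.symm
  -- `G' = [G', τ]`
  have hcomT : comT G τ = G := by
    apply le_antisymm c.comT_le
    obtain ⟨K, hK⟩ : ∃ K : Subgroup (MulAut (↥P ⧸ Z.subgroupOf P)), K = comT G τ := ⟨_, rfl⟩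
    rw [← hK]
    have hle : Q' ≤ (K.comap φ).map (secNorm P Z).subtype := by
      refine hgen.trans ?_
      rw [Subgroup.closure_le]
      rintro _ ⟨h, hh, rfl⟩
      rw [SetLike.mem_coe, Subgroup.mem_map]
      refine ⟨⟨t, htN⟩ * ⟨h, hQ'N h hh⟩ * ⟨t, htN⟩⁻¹ * ⟨h, hQ'N h hh⟩⁻¹, ?_, rfl⟩
      rw [Subgroup.mem_comap, map_mul, map_mul, map_mul, map_inv, map_inv, hK, ← hτφ]
      exact mem_comT (hGmem h hh)
    intro η hη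
    obtain ⟨h, hh, rfl⟩ := hGmem' η hη
    obtain ⟨u', hu', hu'eq⟩ := Subgroup.mem_map.1 (hle hh)
    have : u' = ⟨h, hQ'N h hh⟩ := Subtype.ext hu'eq
    rw [← this]
    exact Subgroup.mem_comap.1 hu'
  -- a non-trivial central element of `G'`
  have hGne : G ≠ ⊥ := by
    obtain ⟨g, hg, v, hv, hgv⟩ := hnt
    intro hbot
    have h1 : φ ⟨g, hQ'N g hg⟩ = 1 := by
      have := hGmem g hg
      rw [hbot, Subgroup.mem_bot] at this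
      exact this
    rw [hφone] at h1
    exact hgv (h1 v hv)
  haveI : Nontrivial G := (Subgroup.nontrivial_iff_ne_bot G).2 hGne
  haveI := hGp.center_nontrivial
  obtain ⟨⟨⟨zb, hzbG⟩, hzbc⟩, hzb1⟩ := exists_ne (1 : Subgroup.center G)
  have hzbne : zb ≠ 1 := by
    intro h
    apply hzb1
    apply Subtype.ext
    apply Subtype.ext
    exact h
  have hzbcomm : ∀ η ∈ G, η * zb = zb * η := by
    intro η hη
    have := (Subgroup.mem_center_iff.1 hzbc) ⟨η, hη⟩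
    exact congrArg Subtype.val this
  have hτzb : τ * zb * τ⁻¹ = zb := by
    have hzbT : zb ∈ comT G τ := by rw [hcomT]; exact hzbG
    rw [c.fix_iff_central hzbT]
    intro η hη
    rw [hcomT] at hη
    exact (hzbcomm η hη).symm
  obtain ⟨z₀, hz₀, hzbφ⟩ := hGmem' zb hzbG
  -- the kernel of the action of `Q'` on `V'`
  obtain ⟨K, hKdef⟩ : ∃ K : Subgroup Γ,
      K = (φ.ker ⊓ Q'.subgroupOf (secNorm P Z)).map (secNorm P Z).subtype := ⟨_, rfl⟩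
  have hKmem : ∀ g, g ∈ K ↔ g ∈ Q' ∧ ∃ hg : g ∈ secNorm P Z, φ ⟨g, hg⟩ = 1 := by
    intro g
    rw [hKdef, Subgroup.mem_map]
    constructor
    · rintro ⟨u, hu, rfl⟩
      rw [Subgroup.mem_inf, MonoidHom.mem_ker, Subgroup.mem_subgroupOf] at hu
      exact ⟨hu.2, u.2, hu.1⟩
    · rintro ⟨hg, hgN, h1⟩
      refine ⟨⟨g, hgN⟩, ?_, rfl⟩
      rw [Subgroup.mem_inf, MonoidHom.mem_ker, Subgroup.mem_subgroupOf]
      exact ⟨h1, hg⟩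
  have hKQ' : K ≤ Q' := fun g hg => ((hKmem g).1 hg).1
  have hKt : ∀ g ∈ K, t * g * t⁻¹ ∈ K := by
    intro g hg
    obtain ⟨hgQ', hgN, h1⟩ := (hKmem g).1 hg
    rw [hKmem]
    refine ⟨htQ' g hgQ', Subgroup.mul_mem _ (Subgroup.mul_mem _ htN hgN) (Subgroup.inv_mem _ htN),
      ?_⟩
    have e : φ ⟨t * g * t⁻¹, Subgroup.mul_mem _ (Subgroup.mul_mem _ htN hgN)
        (Subgroup.inv_mem _ htN)⟩ = φ (⟨t, htN⟩ * ⟨g, hgN⟩ * ⟨t, htN⟩⁻¹) := hφeq _ _ rfl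
    rw [e, map_mul, map_mul, map_inv, h1, mul_one, mul_inv_cancel]
  have hKodd : ¬ 2 ∣ Nat.card K := by
    obtain ⟨m, hm⟩ := (IsPGroup.iff_card).1 (hQ'.to_le hKQ')
    rw [hm]
    intro h
    have h3 := Nat.prime_two.dvd_of_dvd_pow h
    exact hq'2 ((Nat.prime_dvd_prime_iff_eq Nat.prime_two hq').1 h3).symm
  have hcommK : t * z₀ * t⁻¹ * z₀⁻¹ ∈ K := by
    rw [hKmem]
    have hN : t * z₀ * t⁻¹ * z₀⁻¹ ∈ secNorm P Z :=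
      Subgroup.mul_mem _ (Subgroup.mul_mem _ (Subgroup.mul_mem _ htN (hQ'N z₀ hz₀))
        (Subgroup.inv_mem _ htN)) (Subgroup.inv_mem _ (hQ'N z₀ hz₀))
    refine ⟨Q'.mul_mem (htQ' z₀ hz₀) (Q'.inv_mem hz₀), hN, ?_⟩
    have e : φ ⟨t * z₀ * t⁻¹ * z₀⁻¹, hN⟩ =
        φ (⟨t, htN⟩ * ⟨z₀, hQ'N z₀ hz₀⟩ * ⟨t, htN⟩⁻¹ * ⟨z₀, hQ'N z₀ hz₀⟩⁻¹) := hφeq _ _ rfl
    rw [e, map_mul, map_mul, map_mul, map_inv, map_inv, ← hτφ, ← hzbφ, hτzb, mul_inv_cancel]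
  obtain ⟨cK, hcK, hfix⟩ :=
    Cfsg.Agent.Helper3.Shult.exists_fixed_in_coset (p := 2) t ht2 K hKt hKodd z₀ hcommK
  obtain ⟨hcKQ', hcKN, hcK1⟩ := (hKmem cK).1 hcK
  have hzQ' : cK * z₀ ∈ Q' := Q'.mul_mem hcKQ' hz₀
  have hzφ : φ ⟨cK * z₀, hQ'N _ hzQ'⟩ = zb := by
    have e : φ ⟨cK * z₀, hQ'N _ hzQ'⟩ = φ (⟨cK, hcKN⟩ * ⟨z₀, hQ'N z₀ hz₀⟩) := hφeq _ _ rfl
    rw [e, map_mul, hcK1, one_mul, ← hzbφ]
  refine ⟨cK * z₀, hzQ', mul_inv_eq_iff_eq_mul.1 hfix, ?_, ?_⟩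
  · by_contra hno
    push Not at hno
    apply hzbne
    rw [← hzφ, hφone]
    exact hno
  · intro g hg
    have hN : g * (cK * z₀) * g⁻¹ * (cK * z₀)⁻¹ ∈ secNorm P Z :=
      Subgroup.mul_mem _ (Subgroup.mul_mem _ (Subgroup.mul_mem _ (hQ'N g hg) (hQ'N _ hzQ'))
        (Subgroup.inv_mem _ (hQ'N g hg))) (Subgroup.inv_mem _ (hQ'N _ hzQ'))
    have h1 : φ ⟨g * (cK * z₀) * g⁻¹ * (cK * z₀)⁻¹, hN⟩ = 1 := by
      have e : φ ⟨g * (cK * z₀) * g⁻¹ * (cK * z₀)⁻¹, hN⟩ =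
          φ (⟨g, hQ'N g hg⟩ * ⟨cK * z₀, hQ'N _ hzQ'⟩ * ⟨g, hQ'N g hg⟩⁻¹ *
            ⟨cK * z₀, hQ'N _ hzQ'⟩⁻¹) := hφeq _ _ rfl
      rw [e, map_mul, map_mul, map_mul, map_inv, map_inv, hzφ, hzbcomm _ (hGmem g hg),
        mul_inv_cancel_right, mul_inv_cancel]
    exact (hφone _ hN).1 h1

end Cfsg.Agent.Helper9.Gross2
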