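import Cfsg.Agent.Helper9.Gross2.Step

/-!
Bridge for S3795 (Gross, `p = 2`): the induction on the order of `G`, modulo the linear theorem.
-/

set_option autoImplicit false
set_option linter.style.haveILetI false
set_option linter.unusedSectionVars false

namespace Cfsg.Agent.Helper9.Gross2

open Cfsg.Agent.Lead.S3F Cfsg.Agent.Lead.Fpq Cfsg.Agent.Helper9.FpqBr Cfsg.Agent.Helper9.GrossBr

universe u

open scoped commutatorElement

/-- `FitTwo` from a subgroup of the ambient group back to the ambient group. -/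
theorem fitTwo_of_subgroupOf {Γ : Type*} [Group Γ] (N G : Subgroup Γ) (hGN : G ≤ N) (s' t' : N)
    (h : FitTwo (G.subgroupOf N) s' t') : FitTwo G (s' : Γ) (t' : Γ) := by
  obtain ⟨N₁, X₁, h1, h2, h3, h4, h5, h6, ⟨c1, hc1⟩, ⟨c2, hc2⟩, h9⟩ := h
  refine ⟨N₁.map N.subtype, X₁.map N.subtype, Subgroup.map_mono h1, ?_, ?_, ?_, ?_, ?_,
    ⟨c1, ?_⟩, ⟨c2, ?_⟩, ?_⟩
  · rintro _ ⟨u, hu, rfl⟩
    exact Subgroup.mem_subgroupOf.1 (h2 hu)
  · rintro g hg _ ⟨u, hu, rfl⟩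
    exact ⟨⟨g, hGN hg⟩ * u * ⟨g, hGN hg⟩⁻¹,
      h3 ⟨g, hGN hg⟩ (Subgroup.mem_subgroupOf.2 hg) u hu, rfl⟩
  · rintro g hg _ ⟨u, hu, rfl⟩
    exact ⟨⟨g, hGN hg⟩ * u * ⟨g, hGN hg⟩⁻¹,
      h4 ⟨g, hGN hg⟩ (Subgroup.mem_subgroupOf.2 hg) u hu, rfl⟩
  · rintro _ ⟨u, hu, rfl⟩
    exact ⟨s' * u * s'⁻¹, h5 u hu, rfl⟩
  · rintro _ ⟨u, hu, rfl⟩
    exact ⟨s' * u * s'⁻¹, h6 u hu, rfl⟩
  · rw [← Subgroup.map_lowerCentralSeries, hc1, Subgroup.map_bot]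
  · rw [← Subgroup.map_lowerCentralSeries]
    exact Subgroup.map_mono hc2
  · intro g hg
    exact ⟨t' * ⟨g, hGN hg⟩ * t'⁻¹ * ⟨g, hGN hg⟩⁻¹,
      h9 ⟨g, hGN hg⟩ (Subgroup.mem_subgroupOf.2 hg), rfl⟩

/-- the induction on the order of `G`. -/
theorem fitTwo_of_cfgS_aux {n : ℕ} (hLin : LinHyp2.{u} n) : ∀ m : ℕ, ∀ (Γ : Type u)
    [Group Γ] [Finite Γ] (G : Subgroup Γ) (s : Γ), Nat.card G = m → CfgS 2 n G s →
    FitTwo G s (s ^ (2 ^ (n - 1))) := by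
  intro m
  induction m using Nat.strong_induction_on with
  | _ m ih =>
    intro Γ _ _ G s hm hcfg
    by_cases hG : G = ⊥
    · refine ⟨⊥, ⊥, le_rfl, bot_le, ?_, ?_, ?_, ?_, ⟨0, rfl⟩, ⟨0, le_rfl⟩, ?_⟩
      · intro g _ x hx
        rw [Subgroup.mem_bot] at hx ⊢
        rw [hx]; group
      · intro g _ x hx
        rw [Subgroup.mem_bot] at hx ⊢
        rw [hx]; group
      · intro x hx
        rw [Subgroup.mem_bot] at hx ⊢
        rw [hx]; group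
      · intro x hx
        rw [Subgroup.mem_bot] at hx ⊢
        rw [hx]; group
      · intro g hg
        rw [hG, Subgroup.mem_bot] at hg
        rw [Subgroup.mem_bot, hg]; group
    classical
    obtain ⟨𝒮, h𝒮⟩ : ∃ 𝒮 : Set (Subgroup Γ), 𝒮 = {U | U ≤ G ∧ U ≠ ⊥ ∧
        (∀ g ∈ G, ∀ x ∈ U, g * x * g⁻¹ ∈ U) ∧ (∀ x ∈ U, s * x * s⁻¹ ∈ U)} := ⟨_, rfl⟩
    have hG𝒮 : G ∈ 𝒮 := by
      rw [h𝒮]
      exact ⟨le_rfl, hG, fun g hg x hx => G.mul_mem (G.mul_mem hg hx) (G.inv_mem hg),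
        fun x hx => conj_mem_of_mem_normalizer' hcfg.norm hx⟩
    obtain ⟨V, hV𝒮, hVmin⟩ := WellFounded.has_min
      (measure (fun U : Subgroup Γ => Nat.card U)).wf 𝒮 ⟨G, hG𝒮⟩
    have hVmin' : ∀ U : Subgroup Γ, U ≤ V → U ≠ ⊥ → (∀ g ∈ G, ∀ x ∈ U, g * x * g⁻¹ ∈ U) →
        (∀ x ∈ U, s * x * s⁻¹ ∈ U) → V ≤ U := by
      intro U hUV hUne h1 h2
      have hU𝒮 : U ∈ 𝒮 := by
        rw [h𝒮] at hV𝒮 ⊢
        exact ⟨hUV.trans hV𝒮.1, hUne, h1, h2⟩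
      have h4 : ¬ Nat.card U < Nat.card V := hVmin U hU𝒮
      have heq := Subgroup.eq_of_le_of_card_ge hUV (not_lt.1 h4)
      rw [heq]
    rw [h𝒮] at hV𝒮
    obtain ⟨hVG, hVne, hVGn, hVA⟩ := hV𝒮
    obtain ⟨N, hN⟩ : ∃ N : Subgroup Γ, N = Subgroup.normalizer (V : Set Γ) := ⟨_, rfl⟩
    have hGN : G ≤ N := fun g hg => by
      rw [hN]; exact mem_normalizer_of_conj_mem V g (hVGn g hg)
    have hsN : s ∈ N := by
      rw [hN]; exact mem_normalizer_of_conj_mem V s hVA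
    have hVN : V ≤ N := hVG.trans hGN
    have hcfg₁ := hcfg.comap_subtype N hGN hsN
    haveI : (V.subgroupOf N).Normal := by
      rw [hN]; exact Subgroup.normal_in_normalizer
    have key : FitTwo (G.subgroupOf N) (⟨s, hsN⟩ : N) ((⟨s, hsN⟩ : N) ^ (2 ^ (n - 1))) := by
      apply step2 hLin (G.subgroupOf N) (V.subgroupOf N) (⟨s, hsN⟩ : N) hcfg₁
      · intro x hx
        rw [Subgroup.mem_subgroupOf] at hx ⊢
        exact hVG hx
      · intro hbot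
        obtain ⟨v, hv1⟩ := (Subgroup.ne_bot_iff_exists_ne_one).1 hVne
        have h1 : (⟨v, hVN v.2⟩ : N) ∈ V.subgroupOf N := by
          rw [Subgroup.mem_subgroupOf]; exact v.2
        rw [hbot, Subgroup.mem_bot] at h1
        apply hv1
        apply Subtype.ext
        have h2 : ((⟨v, hVN v.2⟩ : N) : Γ) = ((1 : N) : Γ) := congrArg Subtype.val h1
        exact h2
      · intro U₁ hU₁V hU₁ne h1 h2
        have h4 := hVmin' (U₁.map N.subtype) ?_ ?_ ?_ ?_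
        · intro x hx
          rw [Subgroup.mem_subgroupOf] at hx
          obtain ⟨u, hu, hux⟩ := h4 hx
          have : u = x := Subtype.ext hux
          rwa [this] at hu
        · rintro _ ⟨u, hu, rfl⟩
          exact Subgroup.mem_subgroupOf.1 (hU₁V hu)
        · rw [Ne, Subgroup.map_eq_bot_iff_of_injective _ N.subtype_injective]
          exact hU₁ne
        · rintro g hg _ ⟨u, hu, rfl⟩
          exact ⟨⟨g, hGN hg⟩ * u * ⟨g, hGN hg⟩⁻¹,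
            h1 ⟨g, hGN hg⟩ (Subgroup.mem_subgroupOf.2 hg) u hu, rfl⟩
        · rintro _ ⟨u, hu, rfl⟩
          exact ⟨⟨s, hsN⟩ * u * ⟨s, hsN⟩⁻¹, h2 u hu, rfl⟩
      · intro Γ' _ _ G' s' hlt hcfg'
        have hcard : Nat.card (G.subgroupOf N) = m := by
          rw [Nat.card_congr (Subgroup.subgroupOfEquivOfLe hGN).toEquiv, hm]
        exact ih (Nat.card G') (by rw [← hcard]; exact hlt) Γ' G' s' rfl hcfg'
    have h1 := fitTwo_of_subgroupOf N G hGN _ _ key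
    rw [Subgroup.coe_pow] at h1
    exact h1

/-- **The group-level theorem**, modulo the linear theorem: `[G, s ^ (2 ^ (n - 1))] ≤ F₂(G)`. -/
theorem fitTwo_of_cfgS {n : ℕ} (hLin : LinHyp2.{u} n) {Γ : Type u} [Group Γ] [Finite Γ]
    (G : Subgroup Γ) (s : Γ) (hcfg : CfgS 2 n G s) : FitTwo G s (s ^ (2 ^ (n - 1))) :=
  fitTwo_of_cfgS_aux hLin _ Γ G s rfl hcfg

end Cfsg.Agent.Helper9.Gross2
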