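import Cfsg.Agent.Helper9.GrossBr.Top
import Cfsg.Agent.Helper9.Gross2.Main

/-!
Bridge for S3795 (Gross, `p = 2`): from the ambient formulation to an abstract automorphism `σ`
with `σ ^ (2 ^ n) = 1`.
-/

set_option autoImplicit false
set_option linter.style.haveILetI false
set_option linter.unusedSectionVars false

namespace Cfsg.Agent.Helper9.Gross2

open Cfsg.Agent.Lead.S3F Cfsg.Agent.Lead.Fpq Cfsg.Agent.Helper9.FpqBr Cfsg.Agent.Helper9.GrossBr

universe u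

open scoped commutatorElement

set_option maxHeartbeats 1000000 in
/-- **The abstract group-level theorem**, modulo the linear theorem: normal `σ`-invariant
subgroups `N ≤ X` with `N` and `X / N` nilpotent, `σ ^ (2 ^ (n - 1))` trivial on `G / X` and `σ`
without fixed points on `G / X`. -/
theorem exists_fit_two {n : ℕ} (hLin : LinHyp2.{u} n)
    {G : Type u} [Group G] [Finite G] (hG : Group.IsSolvable G) (σ : MulAut G)
    (hσ : σ ^ (2 ^ n) = 1) (hfpf : ∀ g : G, σ g = g → g = 1) :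
    ∃ N X : Subgroup G, N ≤ X ∧ N.Normal ∧ X.Normal ∧ (∀ x ∈ N, σ x ∈ N) ∧
      (∀ x ∈ X, σ x ∈ X) ∧ (∃ c : ℕ, N.lowerCentralSeries c = ⊥) ∧
      (∃ c : ℕ, X.lowerCentralSeries c ≤ N) ∧
      (∀ g : G, (σ ^ (2 ^ (n - 1))) g * g⁻¹ ∈ X) ∧ (∀ g : G, σ g * g⁻¹ ∈ X → g ∈ X) := by
  classical
  haveI : Finite (MulAut G) := Finite.of_injective (fun e : MulAut G => (e : G → G))
    (fun a b hab => MulEquiv.ext (congrFun hab))
  obtain ⟨φ, hφ⟩ : ∃ φ : ↥(Subgroup.zpowers σ) →* MulAut G, φ = (Subgroup.zpowers σ).subtype :=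
    ⟨_, rfl⟩
  obtain ⟨a₀, ha₀⟩ : ∃ a₀ : ↥(Subgroup.zpowers σ), a₀ = ⟨σ, Subgroup.mem_zpowers σ⟩ := ⟨_, rfl⟩
  have hφa₀ : ∀ m : ℕ, φ (a₀ ^ m) = σ ^ m := by
    intro m; rw [map_pow, hφ, ha₀]; rfl
  have ha₀gen : ∀ a : ↥(Subgroup.zpowers σ), ∃ i : ℤ, a = a₀ ^ i := by
    rintro ⟨a, ha⟩
    obtain ⟨i, rfl⟩ := Subgroup.mem_zpowers_iff.1 ha
    refine ⟨i, ?_⟩
    apply Subtype.ext
    rw [ha₀, Subgroup.coe_zpow]
  haveI hfinX : Finite (G ⋊[φ] ↥(Subgroup.zpowers σ)) :=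
    Finite.of_equiv _ (SemidirectProduct.equivProd (φ := φ)).symm
  obtain ⟨G₀, hG₀⟩ : ∃ G₀ : Subgroup (G ⋊[φ] ↥(Subgroup.zpowers σ)),
      G₀ = (SemidirectProduct.inl : G →* G ⋊[φ] ↥(Subgroup.zpowers σ)).range := ⟨_, rfl⟩
  obtain ⟨s, hs⟩ : ∃ s : G ⋊[φ] ↥(Subgroup.zpowers σ), s = SemidirectProduct.inr a₀ := ⟨_, rfl⟩
  have eG : G ≃* G₀ := by
    rw [hG₀]; exact MonoidHom.ofInjective SemidirectProduct.inl_injective
  haveI hG₀n : G₀.Normal := by
    rw [hG₀, SemidirectProduct.range_inl_eq_ker_rightHom]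
    exact MonoidHom.normal_ker _
  have hinl : ∀ g : G, SemidirectProduct.inl g ∈ G₀ := fun g => by rw [hG₀]; exact ⟨g, rfl⟩
  have hconj : ∀ (m : ℕ) (g : G), s ^ m * SemidirectProduct.inl g * (s ^ m)⁻¹ =
      SemidirectProduct.inl ((σ ^ m) g) := by
    intro m g
    rw [hs, ← map_pow, ← map_inv, ← SemidirectProduct.inl_aut, hφa₀]
  have hconj1 : ∀ g : G, s * SemidirectProduct.inl g * s⁻¹ = SemidirectProduct.inl (σ g) := by
    intro g
    have := hconj 1 g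
    rwa [pow_one, pow_one] at this
  have hcfg : CfgS 2 n G₀ s := by
    refine ⟨?_, ?_, ?_, ?_, ?_⟩
    · rw [hs, ← map_pow]
      have : a₀ ^ (2 ^ n) = 1 := by
        apply Subtype.ext
        rw [ha₀, Subgroup.coe_pow, Subgroup.coe_one]
        exact hσ
      rw [this, map_one]
    · rw [Subgroup.normalizer_eq_top]; exact Subgroup.mem_top _
    · exact Group.isSolvable_of_surjective (f := eG.toMonoidHom) eG.surjective
    · rw [← Nat.card_congr eG.toEquiv]; exact coprime_of_fpf_pow Nat.prime_two σ hσ hfpf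
    · intro x hx h1
      rw [hG₀] at hx
      obtain ⟨g, rfl⟩ := hx
      rw [hconj1] at h1
      have hg : g = 1 := hfpf g (SemidirectProduct.inl_injective h1)
      rw [hg, map_one]
  obtain ⟨t, ht⟩ : ∃ t, t = s ^ (2 ^ (n - 1)) := ⟨_, rfl⟩
  obtain ⟨N', X', hNX, hXG, hNn, hXn, hNs, hXs, ⟨c1, hc1⟩, ⟨c2, hc2⟩, hcomm⟩ :=
    fitTwo_of_cfgS hLin G₀ s hcfg
  rw [← ht] at hcomm
  have hN'G : N' ≤ G₀ := hNX.trans hXG
  -- normality in the semidirect product
  have hnormal : ∀ K' : Subgroup (G ⋊[φ] ↥(Subgroup.zpowers σ)),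
      (∀ g ∈ G₀, ∀ x ∈ K', g * x * g⁻¹ ∈ K') → (∀ x ∈ K', s * x * s⁻¹ ∈ K') → K'.Normal := by
    intro K' h1 h2
    have hsK' : s ∈ Subgroup.normalizer (K' : Set _) := mem_normalizer_of_conj_mem K' s h2
    have hGK' : G₀ ≤ Subgroup.normalizer (K' : Set _) := fun g hg =>
      mem_normalizer_of_conj_mem K' g (h1 g hg)
    rw [← Subgroup.normalizer_eq_top_iff, eq_top_iff]
    intro x _
    have hx : x = SemidirectProduct.inl x.left * SemidirectProduct.inr x.right := by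
      simp
    rw [hx]
    apply Subgroup.mul_mem _ (hGK' (hinl _))
    obtain ⟨i, hi⟩ := ha₀gen x.right
    rw [hi, map_zpow, ← hs]
    exact Subgroup.zpow_mem _ hsK' i
  haveI hX'n : X'.Normal := hnormal X' hXn hXs
  obtain ⟨N, hN⟩ : ∃ N : Subgroup G, N = N'.comap SemidirectProduct.inl := ⟨_, rfl⟩
  obtain ⟨X, hX⟩ : ∃ X : Subgroup G, X = X'.comap SemidirectProduct.inl := ⟨_, rfl⟩
  have hNmem : ∀ x : G, x ∈ N ↔ SemidirectProduct.inl x ∈ N' := by
    intro x; rw [hN, Subgroup.mem_comap]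
  have hXmem : ∀ x : G, x ∈ X ↔ SemidirectProduct.inl x ∈ X' := by
    intro x; rw [hX, Subgroup.mem_comap]
  have hNmap : N.map SemidirectProduct.inl = N' := by
    rw [hN, Subgroup.map_comap_eq, inf_eq_right, ← hG₀]
    exact hN'G
  have hXmap : X.map SemidirectProduct.inl = X' := by
    rw [hX, Subgroup.map_comap_eq, inf_eq_right, ← hG₀]
    exact hXG
  have hinlconj : ∀ g x : G, (SemidirectProduct.inl (g * x * g⁻¹) :
      G ⋊[φ] ↥(Subgroup.zpowers σ)) =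
      SemidirectProduct.inl g * SemidirectProduct.inl x * (SemidirectProduct.inl g)⁻¹ := by
    intro g x; rw [map_mul, map_mul, map_inv]
  refine ⟨N, X, ?_, ?_, ?_, ?_, ?_, ⟨c1, ?_⟩, ⟨c2, ?_⟩, ?_, ?_⟩
  · intro x hx
    rw [hNmem] at hx
    rw [hXmem]
    exact hNX hx
  · refine ⟨fun x hx g => ?_⟩
    rw [hNmem] at hx ⊢
    rw [hinlconj]
    exact hNn _ (hinl g) _ hx
  · refine ⟨fun x hx g => ?_⟩
    rw [hXmem] at hx ⊢
    rw [hinlconj]
    exact hXn _ (hinl g) _ hx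
  · intro x hx
    rw [hNmem] at hx ⊢
    rw [← hconj1]
    exact hNs _ hx
  · intro x hx
    rw [hXmem] at hx ⊢
    rw [← hconj1]
    exact hXs _ hx
  · have h1 : (N.lowerCentralSeries c1).map
        (SemidirectProduct.inl : G →* G ⋊[φ] ↥(Subgroup.zpowers σ)) = ⊥ := by
      rw [Subgroup.map_lowerCentralSeries, hNmap]; exact hc1
    exact (Subgroup.map_eq_bot_iff_of_injective _ SemidirectProduct.inl_injective).1 h1
  · intro x hx
    rw [hNmem]
    apply hc2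
    have h1 : SemidirectProduct.inl x ∈ (X.lowerCentralSeries c2).map
        (SemidirectProduct.inl : G →* G ⋊[φ] ↥(Subgroup.zpowers σ)) := ⟨x, hx, rfl⟩
    rwa [Subgroup.map_lowerCentralSeries, hXmap] at h1
  · intro g
    rw [hXmem, map_mul, map_inv, ← hconj, ← ht]
    exact hcomm _ (hinl g)
  · intro g hg
    rw [hXmem] at hg ⊢
    have h1 := hcfg.fpf_map (QuotientGroup.mk' X') (SemidirectProduct.inl g) (hinl g) (by
      rw [← map_inv, ← map_mul, ← map_mul, hconj1]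
      rw [QuotientGroup.mk'_apply, QuotientGroup.mk'_apply, QuotientGroup.eq]
      have : (SemidirectProduct.inl (σ g))⁻¹ * SemidirectProduct.inl g =
          (SemidirectProduct.inl g)⁻¹ *
            (SemidirectProduct.inl (σ g * g⁻¹) : G ⋊[φ] ↥(Subgroup.zpowers σ))⁻¹ *
            ((SemidirectProduct.inl g)⁻¹)⁻¹ := by
        rw [map_mul, map_inv]; group
      rw [this]
      exact hX'n.conj_mem _ (X'.inv_mem hg) _)
    rwa [QuotientGroup.mk'_apply, QuotientGroup.eq_one_iff] at h1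

end Cfsg.Agent.Helper9.Gross2
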