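import Cfsg.Agent.Helper9.GrossBr.Chain
import Cfsg.Agent.Helper9.Gross2.Top

/-!
Bridge for S3795 (Gross, `p = 2`): the induction on `n` and the chain form of the conclusion,
modulo the linear theorem (L2) and the base case `σ ^ 4 = 1` (S3794).
-/

set_option autoImplicit false
set_option linter.style.haveILetI false
set_option linter.unusedSectionVars false

namespace Cfsg.Agent.Helper9.Gross2

open Cfsg.Agent.Helper9.GrossBr

universe u

/-- prepending a normal subgroup to a chain. -/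
theorem chain_prepend {G : Type u} [Group G] (m : ℕ) (F : Fin (m + 1) → Subgroup G)
    (K : Subgroup G) (hKn : K.Normal) (hK : K ≤ F 0)
    (hnil : ∃ c : ℕ, (F 0).lowerCentralSeries c ≤ K)
    (hlast : F (Fin.last m) = ⊤) (hmono : Monotone F) (hnorm : ∀ i, (F i).Normal)
    (hstep : ∀ i : Fin m, ∃ k : ℕ, (F i.succ).lowerCentralSeries k ≤ F i.castSucc) :
    ∃ F' : Fin (m + 1 + 1) → Subgroup G, F' 0 = K ∧ F' (Fin.last (m + 1)) = ⊤ ∧ Monotone F' ∧
      (∀ i, (F' i).Normal) ∧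
      ∀ i : Fin (m + 1), ∃ k : ℕ, (F' i.succ).lowerCentralSeries k ≤ F' i.castSucc := by
  obtain ⟨F', hF'⟩ : ∃ F' : Fin (m + 1 + 1) → Subgroup G, F' = Fin.cons K F := ⟨_, rfl⟩
  have hF0 : F' 0 = K := by rw [hF', Fin.cons_zero]
  have hFs : ∀ i : Fin (m + 1), F' i.succ = F i := by
    intro i; rw [hF', Fin.cons_succ]
  refine ⟨F', hF0, ?_, ?_, ?_, ?_⟩
  · rw [← Fin.succ_last, hFs, hlast]
  · rw [Fin.monotone_iff_le_succ]
    intro i
    refine Fin.cases ?_ (fun j => ?_) i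
    · rw [Fin.castSucc_zero, hF0, hFs]; exact hK
    · rw [← Fin.succ_castSucc, hFs, hFs]
      exact hmono (Fin.castSucc_le_succ j)
  · intro i
    refine Fin.cases ?_ (fun j => ?_) i
    · rw [hF0]; exact hKn
    · rw [hFs]; exact hnorm j
  · intro i
    refine Fin.cases ?_ (fun j => ?_) i
    · obtain ⟨c, hc⟩ := hnil
      refine ⟨c, ?_⟩
      rw [hFs, Fin.castSucc_zero, hF0]; exact hc
    · obtain ⟨k, hk⟩ := hstep j
      refine ⟨k, ?_⟩
      rw [← Fin.succ_castSucc, hFs, hFs]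
      exact hk

/-- pulling a chain back from a quotient by a normal subgroup `X` with a nilpotent normal subgroup
`N ≤ X` and `X / N` nilpotent. -/
theorem chain_two_of_quotient {G : Type u} [Group G] (N X : Subgroup G) (hNn : N.Normal)
    [hXn : X.Normal] (hNX : N ≤ X) (hN : ∃ c : ℕ, N.lowerCentralSeries c = ⊥)
    (hX : ∃ c : ℕ, X.lowerCentralSeries c ≤ N) (m : ℕ)
    (F' : Fin (m + 1) → Subgroup (G ⧸ X)) (h0 : F' 0 = ⊥) (hlast : F' (Fin.last m) = ⊤)
    (hmono : Monotone F') (hnorm : ∀ i, (F' i).Normal)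
    (hstep : ∀ i : Fin m, ∃ k : ℕ, (F' i.succ).lowerCentralSeries k ≤ F' i.castSucc) :
    ∃ F : Fin (m + 1 + 1 + 1) → Subgroup G, F 0 = ⊥ ∧ F (Fin.last (m + 1 + 1)) = ⊤ ∧
      Monotone F ∧ (∀ i, (F i).Normal) ∧
      ∀ i : Fin (m + 1 + 1), ∃ k : ℕ, (F i.succ).lowerCentralSeries k ≤ F i.castSucc := by
  obtain ⟨π, hπ⟩ : ∃ π : G →* G ⧸ X, π = QuotientGroup.mk' X := ⟨_, rfl⟩
  have hπs : Function.Surjective π := by rw [hπ]; exact QuotientGroup.mk'_surjective X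
  obtain ⟨F₀, hF₀⟩ : ∃ F₀ : Fin (m + 1) → Subgroup G, F₀ = fun i => (F' i).comap π := ⟨_, rfl⟩
  have hF₀a : ∀ i, F₀ i = (F' i).comap π := by intro i; rw [hF₀]
  have hF₀0 : F₀ 0 = X := by
    rw [hF₀a, h0]
    have : (⊥ : Subgroup (G ⧸ X)).comap π = π.ker := rfl
    rw [this, hπ, QuotientGroup.ker_mk']
  obtain ⟨F₁, h10, h1last, h1mono, h1norm, h1step⟩ := chain_prepend m F₀ N hNn
    (by rw [hF₀0]; exact hNX) (by rw [hF₀0]; exact hX)
    (by rw [hF₀a, hlast, Subgroup.comap_top])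
    (fun i j hij => by rw [hF₀a, hF₀a]; exact Subgroup.comap_mono (hmono hij))
    (fun i => by rw [hF₀a]; exact (hnorm i).comap π)
    (by
      intro i
      obtain ⟨k, hk⟩ := hstep i
      refine ⟨k, ?_⟩
      rw [hF₀a, hF₀a]
      intro x hx
      rw [Subgroup.mem_comap]
      apply hk
      have h1 : π x ∈ (((F' i.succ).comap π).lowerCentralSeries k).map π := ⟨x, hx, rfl⟩
      rwa [Subgroup.map_lowerCentralSeries, Subgroup.map_comap_eq_self_of_surjective hπs] at h1)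
  exact chain_prepend (m + 1) F₁ ⊥ inferInstance bot_le
    (by
      obtain ⟨c, hc⟩ := hN
      exact ⟨c, by rw [h10, hc]⟩)
    h1last h1mono h1norm h1step

/-- the chain of length two from a nilpotent commutator subgroup. -/
theorem chain_of_nilpotent_commutator {G : Type u} [Group G]
    (h : Group.IsNilpotent (commutator G)) :
    ∃ F : Fin (0 + 1 + 1 + 1) → Subgroup G, F 0 = ⊥ ∧ F (Fin.last (0 + 1 + 1)) = ⊤ ∧
      Monotone F ∧ (∀ i, (F i).Normal) ∧
      ∀ i : Fin (0 + 1 + 1), ∃ k : ℕ, (F i.succ).lowerCentralSeries k ≤ F i.castSucc := by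
  obtain ⟨F₀, hF₀⟩ : ∃ F₀ : Fin (0 + 1) → Subgroup G, F₀ = fun _ => ⊤ := ⟨_, rfl⟩
  have hF₀a : ∀ i, F₀ i = ⊤ := by intro i; rw [hF₀]
  obtain ⟨F₁, h10, h1last, h1mono, h1norm, h1step⟩ := chain_prepend 0 F₀ (commutator G)
    inferInstance (by rw [hF₀a]; exact le_top)
    ⟨1, by rw [hF₀a, Subgroup.top_lowerCentralSeries_one]⟩
    (hF₀a _) (fun i j _ => by rw [hF₀a, hF₀a]) (fun i => by rw [hF₀a]; infer_instance)
    (fun i => i.elim0)
  obtain ⟨c, hc⟩ := (Subgroup.isNilpotent_iff_lowerCentralSeries (commutator G)).1 h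
  exact chain_prepend (0 + 1) F₁ ⊥ inferInstance bot_le ⟨c, by rw [h10, hc]⟩
    h1last h1mono h1norm h1step

set_option maxHeartbeats 1000000 in
/-- the induction on `n`, in the form `n = k + 2`, with the length of the chain as a variable. -/
theorem gross2_chain_aux (hLin : ∀ n : ℕ, 3 ≤ n → LinHyp2.{u} n)
    (hbase : ∀ (G : Type u) [Group G] [Finite G], Group.IsSolvable G → ∀ σ : MulAut G,
      σ ^ 4 = 1 → (∀ g : G, σ g = g → g = 1) → Group.IsNilpotent (commutator G)) :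
    ∀ (k : ℕ) (G : Type u) [Group G] [Finite G], Group.IsSolvable G → ∀ σ : MulAut G,
      σ ^ (2 ^ (k + 2)) = 1 → (∀ g : G, σ g = g → g = 1) →
      ∃ L : ℕ, L = 2 * k + 2 ∧
      ∃ F : Fin (L + 1) → Subgroup G, F 0 = ⊥ ∧ F (Fin.last L) = ⊤ ∧ Monotone F ∧
        (∀ i, (F i).Normal) ∧
        ∀ i : Fin L, ∃ c : ℕ, (F i.succ).lowerCentralSeries c ≤ F i.castSucc := by
  intro k
  induction k with
  | zero =>
    intro G _ _ hG σ hσ hfpf
    have h4 : (2 : ℕ) ^ (0 + 2) = 4 := by norm_num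
    rw [h4] at hσ
    exact ⟨0 + 1 + 1, by omega, chain_of_nilpotent_commutator (hbase G hG σ hσ hfpf)⟩
  | succ k ih =>
    intro G _ _ hG σ hσ hfpf
    obtain ⟨N, X, hNX, hNn, hXn, hNσ, hXσ, hNnil, hXnil, hτ, hfree⟩ :=
      exists_fit_two (hLin (k + 1 + 2) (by omega)) hG σ hσ hfpf
    have e1 : k + 1 + 2 - 1 = k + 2 := by omega
    rw [e1] at hτ
    haveI := hXn
    have hK : X.map (σ : G →* G) = X := by
      have hle : X.map (σ : G →* G) ≤ X := by
        rintro _ ⟨x, hx, rfl⟩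
        exact hXσ x hx
      apply Subgroup.eq_of_le_of_card_ge hle
      rw [Subgroup.card_map_of_injective (f := (σ : G →* G)) σ.injective]
    obtain ⟨σ', hσ'⟩ : ∃ σ' : MulAut (G ⧸ X), σ' = QuotientGroup.congr X X σ hK := ⟨_, rfl⟩
    have hσ'pow : σ' ^ (2 ^ (k + 2)) = 1 := by
      ext x
      obtain ⟨g, rfl⟩ := QuotientGroup.mk_surjective x
      rw [hσ', congr_pow_mk, MulAut.one_apply, QuotientGroup.eq, ← X.inv_mem_iff]
      have : (((σ ^ 2 ^ (k + 2)) g)⁻¹ * g)⁻¹ =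
          g⁻¹ * ((σ ^ 2 ^ (k + 2)) g * g⁻¹) * (g⁻¹)⁻¹ := by group
      rw [this]
      exact hXn.conj_mem _ (hτ g) _
    have hfpf' : ∀ x : G ⧸ X, σ' x = x → x = 1 := by
      intro x hx
      obtain ⟨g, rfl⟩ := QuotientGroup.mk_surjective x
      rw [hσ', QuotientGroup.congr_mk, QuotientGroup.eq] at hx
      rw [QuotientGroup.eq_one_iff]
      apply hfree
      have h1 : σ g * g⁻¹ = σ g * (((σ g)⁻¹ * g)⁻¹) * (σ g)⁻¹ := by group
      rw [h1]
      exact hXn.conj_mem _ (X.inv_mem hx) _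
    haveI := hG
    have hGq : Group.IsSolvable (G ⧸ X) :=
      Group.isSolvable_of_surjective (QuotientGroup.mk'_surjective X)
    obtain ⟨L, hL, F', h0, hlast, hmono, hnorm, hstep⟩ := ih (G ⧸ X) hGq σ' hσ'pow hfpf'
    exact ⟨L + 1 + 1, by omega,
      chain_two_of_quotient N X hNn hNX hNnil hXnil L F' h0 hlast hmono hnorm hstep⟩

/-- **Gross's theorem for `p = 2` in chain form**, modulo the linear theorem (L2) and the base
case `σ ^ 4 = 1`. -/
theorem gross2_chain (hLin : ∀ n : ℕ, 3 ≤ n → LinHyp2.{u} n)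
    (hbase : ∀ (G : Type u) [Group G] [Finite G], Group.IsSolvable G → ∀ σ : MulAut G,
      σ ^ 4 = 1 → (∀ g : G, σ g = g → g = 1) → Group.IsNilpotent (commutator G))
    (n : ℕ) (hn : 1 < n) (G : Type u) [Group G] [Finite G] (hG : Group.IsSolvable G)
    (σ : MulAut G) (hσ : σ ^ (2 ^ n) = 1) (hfpf : ∀ g : G, σ g = g → g = 1) :
    ∃ F : Fin ((2 * n - 2) + 1) → Subgroup G, F 0 = ⊥ ∧ F (Fin.last (2 * n - 2)) = ⊤ ∧
      Monotone F ∧ (∀ i, (F i).Normal) ∧
      ∀ i : Fin (2 * n - 2), ∃ k : ℕ, (F i.succ).lowerCentralSeries k ≤ F i.castSucc := by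
  obtain ⟨k, rfl⟩ : ∃ k, n = k + 2 := ⟨n - 2, by omega⟩
  obtain ⟨L, hL, F, h0, hlast, hmono, hnorm, hstep⟩ :=
    gross2_chain_aux hLin hbase k G hG σ hσ hfpf
  have hL' : L = 2 * (k + 2) - 2 := by omega
  subst hL'
  exact ⟨F, h0, hlast, hmono, hnorm, hstep⟩

end Cfsg.Agent.Helper9.Gross2
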