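import Cfsg.Agent.Helper9.GrossBr.Step
import Cfsg.Agent.Helper9.Gross2.Defs

/-!
Bridge for S3795 (Gross, `p = 2`): the inductive step for a minimal normal invariant subgroup that
is normal in the ambient group.
-/

set_option autoImplicit false
set_option linter.style.haveILetI false
set_option linter.unusedSectionVars false

namespace Cfsg.Agent.Helper9.Gross2

open Cfsg.Agent.Lead.S3F Cfsg.Agent.Lead.Fpq Cfsg.Agent.Helper9.FpqBr Cfsg.Agent.Helper9.GrossBr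

universe u

open scoped commutatorElement

set_option maxHeartbeats 1000000 in
/-- the inductive step. -/
theorem step2 {n : ℕ} (hLin : LinHyp2.{u} n) {Γ : Type u} [Group Γ] [Finite Γ]
    (G V : Subgroup Γ) (s : Γ) [hVn : V.Normal]
    (hcfg : CfgS 2 n G s) (hVG : V ≤ G) (hVne : V ≠ ⊥)
    (hVmin : ∀ U : Subgroup Γ, U ≤ V → U ≠ ⊥ → (∀ g ∈ G, ∀ x ∈ U, g * x * g⁻¹ ∈ U) →
      (∀ x ∈ U, s * x * s⁻¹ ∈ U) → V ≤ U)
    (IH : ∀ (Γ' : Type u) [Group Γ'] [Finite Γ'] (G' : Subgroup Γ') (s' : Γ'),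
      Nat.card G' < Nat.card G → CfgS 2 n G' s' → FitTwo G' s' (s' ^ (2 ^ (n - 1)))) :
    FitTwo G s (s ^ (2 ^ (n - 1))) := by
  classical
  haveI := hcfg.solv
  have hVs : Group.IsSolvable V :=
    Group.isSolvable_of_isSolvable_injective (f := Subgroup.inclusion hVG)
      (Subgroup.inclusion_injective hVG)
  obtain ⟨r, hr, hrV, hVc, hVp⟩ := elementary_of_minimal V hVs hVne
    (fun U hUn hUV hUne => hVmin U hUV hUne (fun g _ x hx => hUn.conj_mem x hx g)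
      (fun x hx => hUn.conj_mem x hx s))
  haveI : Fact r.Prime := ⟨hr⟩
  have hrp : r ≠ 2 := by
    intro h
    have h1 : r ∣ Nat.card G := hrV.trans (Subgroup.card_dvd_of_le hVG)
    have h2 := Nat.Coprime.eq_one_of_dvd (h ▸ hcfg.cop : (Nat.card G).Coprime r).symm h1
    exact hr.one_lt.ne' h2
  obtain ⟨W, iW1, iW2, iW3, ρ, hfaith, hfixρ⟩ := Cfsg.Agent.Helper9.FpqBr.exists_rep r V
    (fun a b => Subtype.ext (hVc a a.2 b b.2))
    (fun v => Subtype.ext (by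
      rw [Subgroup.coe_pow, Subgroup.coe_one]; exact hVp v v.2))
  obtain ⟨φ, hφ⟩ : ∃ φ : Γ →* MulAut V, φ = MulAut.conjNormal := ⟨_, rfl⟩
  have hφa : ∀ (g : Γ) (v : V), ((φ g) v : Γ) = g * v * g⁻¹ := by
    intro g v; rw [hφ, MulAut.conjNormal_apply]
  have hφ1 : ∀ g, φ g = 1 → ∀ v ∈ V, g * v * g⁻¹ = v := by
    intro g hg v hv
    have := hφa g ⟨v, hv⟩
    rw [hg, MulAut.one_apply] at this
    exact this.symm
  have hφV : ∀ v ∈ V, φ v = 1 := by
    intro v hv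
    ext w
    rw [hφa, MulAut.one_apply]
    have := hVc v hv w w.2
    rw [this]; group
  have hcfgH := hcfg.map φ
  obtain ⟨H, hH⟩ : ∃ H : Subgroup (MulAut V), H = G.map φ := ⟨_, rfl⟩
  rw [← hH] at hcfgH
  -- `H` is smaller than `G`
  have hltH : Nat.card H < Nat.card G := by
    rw [hH]
    by_contra hge
    push Not at hge
    have hbij := Function.Surjective.bijective_of_nat_card_le
      (φ.subgroupMap_surjective G) hge
    obtain ⟨v, hv1⟩ := (Subgroup.ne_bot_iff_exists_ne_one).1 hVne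
    have h1 : φ.subgroupMap G ⟨v, hVG v.2⟩ = φ.subgroupMap G 1 := by
      apply Subtype.ext
      rw [map_one]
      change φ (v : Γ) = 1
      exact hφV v v.2
    have h2 := hbij.1 h1
    apply hv1
    have h3 := congrArg Subtype.val h2
    exact Subtype.ext h3
  -- fixed points
  have hfix : ∀ w : W, ρ (φ s) w = w → w = 0 := by
    intro w hw
    refine hfixρ ({φ s} : Set (MulAut V)) ?_ w ?_
    · intro v hv
      have := hcfg.fpf v (hVG v.2) (by
        have h3 := hv (φ s) (Set.mem_singleton _)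
        rw [← hφa, h3])
      exact Subtype.ext this
    · intro x hx
      rw [Set.mem_singleton_iff] at hx
      rw [hx]; exact hw
  -- invariant subgroups of automorphisms with nontrivial fixed points are trivial
  have hminE : ∀ E : Subgroup (MulAut V), (∀ g ∈ H, ∀ x ∈ E, g * x * g⁻¹ ∈ E) →
      φ s ∈ Subgroup.normalizer (E : Set (MulAut V)) →
      fixV V (E : Set (MulAut V)) ≠ ⊥ → E = ⊥ := by
    intro E hEn hAE hne
    have hV := hVmin (fixV V (E : Set (MulAut V))) (fixV_le V _) hne ?_ ?_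
    · rw [eq_bot_iff]
      intro e he
      rw [Subgroup.mem_bot]
      exact eq_one_of_le_fixV V _ hV e he
    · intro g hg
      apply conj_mem_fixV
      intro e he
      have h1 : (φ g)⁻¹ ∈ H := by
        rw [hH]; exact Subgroup.inv_mem _ ⟨g, hg, rfl⟩
      have := hEn _ h1 e he
      rw [inv_inv] at this
      rw [← hφ]; exact this
    · apply conj_mem_fixV
      intro e he
      have := conj_mem_of_mem_normalizer' (Subgroup.inv_mem _ hAE) he
      rw [inv_inv] at this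
      rw [← hφ]; exact this
  have hOp : ∀ P : Subgroup (MulAut V), P ≤ H → (∀ g ∈ H, ∀ x ∈ P, g * x * g⁻¹ ∈ P) →
      φ s ∈ Subgroup.normalizer (P : Set (MulAut V)) → IsPGroup r P → P = ⊥ := by
    intro P _ hPn hAP hPp
    apply hminE P hPn hAP
    have h1 : (1 : V) ∈ MulAction.fixedPoints P V := fun e => map_one (e : MulAut V)
    obtain ⟨b, hb, hb1⟩ := hPp.exists_fixed_point_of_prime_dvd_card_of_fixed_point V hrV h1
    intro hbot
    have h2 : (b : Γ) ∈ fixV V (P : Set (MulAut V)) := ⟨b.2, fun e he => hb ⟨e, he⟩⟩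
    rw [hbot, Subgroup.mem_bot] at h2
    exact hb1 (Subtype.ext h2.symm)
  have hP2 : ∀ H₀ : Subgroup (MulAut V), H₀ ≤ H →
      φ s ∈ Subgroup.normalizer (H₀ : Set (MulAut V)) →
      FitTwo H₀ (φ s) ((φ s) ^ (2 ^ (n - 1))) := by
    intro H₀ hle hn
    exact IH (MulAut V) H₀ (φ s) (lt_of_le_of_lt (Subgroup.card_le_of_le hle) hltH)
      (hcfgH.sub hle hn)
  obtain ⟨NH, hNHle, hNHn, hNHs, ⟨cH, hcH⟩, hNHc⟩ :=
    hLin (AlgebraicClosure (ZMod r)) r (MulAut V) W ρ (φ s) hcfgH.pow hfix H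
      hcfgH.norm hcfgH.solv hcfgH.cop hrp hcfgH.fpf (fun x _ => hfaith x) hOp hP2
  obtain ⟨t, ht⟩ : ∃ t : Γ, t = s ^ (2 ^ (n - 1)) := ⟨_, rfl⟩
  rw [← ht]
  have hφt : φ t = φ s ^ (2 ^ (n - 1)) := by rw [ht, map_pow]
  rw [← hφt] at hNHc
  -- the quotient
  obtain ⟨π, hπ⟩ : ∃ π : Γ →* Γ ⧸ V, π = QuotientGroup.mk' V := ⟨_, rfl⟩
  have hkerπ : π.ker = V := by rw [hπ, QuotientGroup.ker_mk']
  have hcfgQ := hcfg.map π
  have hlt : Nat.card (G.map π) < Nat.card G := by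
    by_contra hge
    push Not at hge
    have hbij := Function.Surjective.bijective_of_nat_card_le
      (π.subgroupMap_surjective G) hge
    obtain ⟨v, hv1⟩ := (Subgroup.ne_bot_iff_exists_ne_one).1 hVne
    have h1 : π.subgroupMap G ⟨v, hVG v.2⟩ = π.subgroupMap G 1 := by
      apply Subtype.ext
      rw [map_one]
      change π (v : Γ) = 1
      rw [hπ, QuotientGroup.mk'_apply, QuotientGroup.eq_one_iff]
      exact v.2
    have h2 := hbij.1 h1
    apply hv1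
    have h3 := congrArg Subtype.val h2
    exact Subtype.ext h3
  obtain ⟨Nq, Xq, hNXq, hXqG, hNqn, hXqn, hNqs, hXqs, ⟨c1, hc1⟩, ⟨c2, hc2⟩, hcq⟩ :=
    IH (Γ ⧸ V) (G.map π) (π s) hlt hcfgQ
  have hπt : π t = π s ^ (2 ^ (n - 1)) := by rw [ht, map_pow]
  rw [← hπt] at hcq
  -- the subgroups
  obtain ⟨Y, hY⟩ : ∃ Y : Subgroup Γ, Y = Nq.comap π ⊓ G := ⟨_, rfl⟩
  obtain ⟨X', hX'⟩ : ∃ X' : Subgroup Γ, X' = Xq.comap π ⊓ G := ⟨_, rfl⟩
  obtain ⟨X₁, hX₁⟩ : ∃ X₁ : Subgroup Γ, X₁ = X' ⊓ NH.comap φ := ⟨_, rfl⟩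
  obtain ⟨N₁, hN₁⟩ : ∃ N₁ : Subgroup Γ, N₁ = Y ⊓ φ.ker := ⟨_, rfl⟩
  have hYmem : ∀ x, x ∈ Y ↔ π x ∈ Nq ∧ x ∈ G := by
    intro x; rw [hY, Subgroup.mem_inf, Subgroup.mem_comap]
  have hX'mem : ∀ x, x ∈ X' ↔ π x ∈ Xq ∧ x ∈ G := by
    intro x; rw [hX', Subgroup.mem_inf, Subgroup.mem_comap]
  have hX₁mem : ∀ x, x ∈ X₁ ↔ (π x ∈ Xq ∧ x ∈ G) ∧ φ x ∈ NH := by
    intro x; rw [hX₁, Subgroup.mem_inf, hX'mem, Subgroup.mem_comap]
  have hN₁mem : ∀ x, x ∈ N₁ ↔ (π x ∈ Nq ∧ x ∈ G) ∧ φ x = 1 := by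
    intro x; rw [hN₁, Subgroup.mem_inf, hYmem, MonoidHom.mem_ker]
  have hsG : ∀ x ∈ G, s * x * s⁻¹ ∈ G := fun x hx => conj_mem_of_mem_normalizer' hcfg.norm hx
  have hGG : ∀ g ∈ G, ∀ x ∈ G, g * x * g⁻¹ ∈ G := fun g hg x hx =>
    G.mul_mem (G.mul_mem hg hx) (G.inv_mem hg)
  have hπG : ∀ g ∈ G, π g ∈ G.map π := fun g hg => ⟨g, hg, rfl⟩
  have hφG : ∀ g ∈ G, φ g ∈ H := fun g hg => by rw [hH]; exact ⟨g, hg, rfl⟩
  have hconjπ : ∀ a x : Γ, π (a * x * a⁻¹) = π a * π x * (π a)⁻¹ := by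
    intro a x; rw [map_mul, map_mul, map_inv]
  have hconjφ : ∀ a x : Γ, φ (a * x * a⁻¹) = φ a * φ x * (φ a)⁻¹ := by
    intro a x; rw [map_mul, map_mul, map_inv]
  have hX₁G : X₁ ≤ G := fun x hx => ((hX₁mem x).1 hx).1.2
  have hN₁G : N₁ ≤ G := fun x hx => ((hN₁mem x).1 hx).1.2
  refine ⟨N₁, X₁, ?_, hX₁G, ?_, ?_, ?_, ?_, ?_, ?_, ?_⟩
  · -- N₁ ≤ X₁
    intro x hx
    rw [hN₁mem] at hx
    rw [hX₁mem]
    refine ⟨⟨hNXq hx.1.1, hx.1.2⟩, ?_⟩
    rw [hx.2]; exact NH.one_mem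
  · -- G normalizes N₁
    intro g hg x hx
    rw [hN₁mem] at hx ⊢
    refine ⟨⟨?_, hGG g hg x hx.1.2⟩, ?_⟩
    · rw [hconjπ]; exact hNqn _ (hπG g hg) _ hx.1.1
    · rw [hconjφ, hx.2, mul_one, mul_inv_cancel]
  · -- G normalizes X₁
    intro g hg x hx
    rw [hX₁mem] at hx ⊢
    refine ⟨⟨?_, hGG g hg x hx.1.2⟩, ?_⟩
    · rw [hconjπ]; exact hXqn _ (hπG g hg) _ hx.1.1
    · rw [hconjφ]; exact hNHn _ (hφG g hg) _ hx.2
  · -- s normalizes N₁
    intro x hx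
    rw [hN₁mem] at hx ⊢
    refine ⟨⟨?_, hsG x hx.1.2⟩, ?_⟩
    · rw [hconjπ]; exact hNqs _ hx.1.1
    · rw [hconjφ, hx.2, mul_one, mul_inv_cancel]
  · -- s normalizes X₁
    intro x hx
    rw [hX₁mem] at hx ⊢
    refine ⟨⟨?_, hsG x hx.1.2⟩, ?_⟩
    · rw [hconjπ]; exact hXqs _ hx.1.1
    · rw [hconjφ]; exact hNHs _ hx.2
  · -- N₁ nilpotent
    have h2 : N₁.lowerCentralSeries c1 ≤ V := by
      have h3 : (N₁.lowerCentralSeries c1).map π = ⊥ := by
        rw [Subgroup.map_lowerCentralSeries, eq_bot_iff, ← hc1]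
        apply Subgroup.lowerCentralSeries_mono c1
        rintro _ ⟨x, hx, rfl⟩
        exact ((hN₁mem x).1 hx).1.1
      have := (Subgroup.map_eq_bot_iff _).1 h3
      rwa [hkerπ] at this
    refine ⟨c1 + 1, ?_⟩
    rw [Subgroup.lowerCentralSeries_succ, Subgroup.commutator_eq_bot_iff_le_centralizer]
    intro x hx
    rw [Subgroup.mem_centralizer_iff]
    intro y hy
    have := hφ1 y ((hN₁mem y).1 hy).2 x (h2 hx)
    calc y * x = (y * x * y⁻¹) * y := by group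
      _ = x * y := by rw [this]
  · -- X₁ / N₁ nilpotent
    refine ⟨max c2 cH, ?_⟩
    intro x hx
    have hx2 : x ∈ X₁.lowerCentralSeries c2 :=
      X₁.lowerCentralSeries_antitone (le_max_left c2 cH) hx
    have hxH : x ∈ X₁.lowerCentralSeries cH :=
      X₁.lowerCentralSeries_antitone (le_max_right c2 cH) hx
    rw [hN₁mem]
    refine ⟨⟨?_, hX₁G (X₁.lowerCentralSeries_le_self _ hx)⟩, ?_⟩
    · apply hc2
      have h3 : π x ∈ (X₁.lowerCentralSeries c2).map π := ⟨x, hx2, rfl⟩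
      rw [Subgroup.map_lowerCentralSeries] at h3
      refine Subgroup.lowerCentralSeries_mono c2 ?_ h3
      rintro _ ⟨y, hy, rfl⟩
      exact ((hX₁mem y).1 hy).1.1
    · have h3 : φ x ∈ (X₁.lowerCentralSeries cH).map φ := ⟨x, hxH, rfl⟩
      rw [Subgroup.map_lowerCentralSeries] at h3
      have h4 : (X₁.map φ).lowerCentralSeries cH ≤ NH.lowerCentralSeries cH := by
        apply Subgroup.lowerCentralSeries_mono cH
        rintro _ ⟨y, hy, rfl⟩
        exact ((hX₁mem y).1 hy).2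
      have h5 := h4 h3
      rw [hcH, Subgroup.mem_bot] at h5
      exact h5
  · -- commutators with t
    intro g hg
    have htG : t * g * t⁻¹ ∈ G := by
      rw [ht]
      exact conj_mem_of_mem_normalizer' (Subgroup.pow_mem _ hcfg.norm _) hg
    rw [hX₁mem]
    refine ⟨⟨?_, G.mul_mem htG (G.inv_mem hg)⟩, ?_⟩
    · have := hcq (π g) (hπG g hg)
      rw [map_mul, map_mul, map_mul, map_inv, map_inv]
      exact this
    · have := hNHc (φ g) (hφG g hg)
      rw [map_mul, map_mul, map_mul, map_inv, map_inv]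
      exact this

end Cfsg.Agent.Helper9.Gross2
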