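import Mathlib
import Cfsg.Agent.Helper9.Gross2.TowerFin

/-!
S3795 (Gross, `p = 2`), Tower Theorem: `tower_final` with the hypothesis on `z` in the shape
produced by `step_two` (`[g, z]` centralizes `Q_m` modulo `Z`), through coprime action.
-/

set_option autoImplicit false

namespace Cfsg.Agent.Helper9.Gross2

/-- a `q'`-element centralizing `Z` and `Q_m / Z` centralizes the `q`-group `Q_m` (`q ≠ q'`). -/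
theorem centralizes_of_mod {Γ : Type*} [Group Γ] [Finite Γ] {q q' : ℕ} (hq : q.Prime)
    (hq' : q'.Prime) (hqq' : q ≠ q') (Qm Z Q' : Subgroup Γ) (hQm : IsPGroup q Qm)
    (hQ' : IsPGroup q' Q') (hZQm : Z ≤ Qm) (hQ'Z : ∀ h ∈ Q', ∀ a ∈ Z, h * a = a * h)
    (a : Γ) (ha : a ∈ Q') (hmod : ∀ v ∈ Qm, a * v * a⁻¹ * v⁻¹ ∈ Z) :
    ∀ v ∈ Qm, a * v = v * a := by
  intro v hv
  obtain ⟨c, hc⟩ : ∃ c, c = a * v * a⁻¹ * v⁻¹ := ⟨_, rfl⟩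
  have hcZ : c ∈ Z := by rw [hc]; exact hmod v hv
  have hav : a * v * a⁻¹ = c * v := by rw [hc]; group
  have hpowc : ∀ m : ℕ, a * c ^ m = c ^ m * a := fun m => hQ'Z a ha _ (Z.pow_mem hcZ m)
  have hpow : ∀ m : ℕ, a ^ m * v * (a ^ m)⁻¹ = c ^ m * v := by
    intro m
    induction m with
    | zero => simp
    | succ m ih =>
      have e : a ^ (m + 1) * v * (a ^ (m + 1))⁻¹ = a * (a ^ m * v * (a ^ m)⁻¹) * a⁻¹ := by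
        rw [pow_succ']; group
      rw [e, ih]
      have e2 : a * (c ^ m * v) * a⁻¹ = (a * c ^ m) * a⁻¹ * (a * v * a⁻¹) := by group
      rw [e2, hpowc m, mul_inv_cancel_right, hav, ← mul_assoc, ← pow_succ]
  obtain ⟨k₁, hk₁⟩ := hQ' ⟨a, ha⟩
  have hak : a ^ (q' ^ k₁) = 1 := by
    have := congrArg Subtype.val hk₁
    simpa using this
  obtain ⟨k₂, hk₂⟩ := hQm ⟨c, hZQm hcZ⟩
  have hck : c ^ (q ^ k₂) = 1 := by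
    have := congrArg Subtype.val hk₂
    simpa using this
  have h1 := hpow (q' ^ k₁)
  rw [hak, inv_one, mul_one, one_mul] at h1
  have hc1 : c ^ (q' ^ k₁) = 1 := by
    have h2 : c ^ (q' ^ k₁) * v = 1 * v := by rw [one_mul]; exact h1.symm
    exact mul_right_cancel h2
  have hord1 : orderOf c ∣ q' ^ k₁ := orderOf_dvd_of_pow_eq_one hc1
  have hord2 : orderOf c ∣ q ^ k₂ := orderOf_dvd_of_pow_eq_one hck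
  have hcop : Nat.Coprime (q ^ k₂) (q' ^ k₁) :=
    Nat.Coprime.pow _ _ ((Nat.coprime_primes hq hq').2 hqq')
  have hone : c = 1 := by
    have h3 : orderOf c ∣ 1 := by
      have := Nat.dvd_gcd hord2 hord1
      rwa [hcop] at this
    exact orderOf_eq_one_iff.1 (Nat.dvd_one.1 h3)
  rw [hone, one_mul] at hav
  exact mul_inv_eq_iff_eq_mul.1 hav

/-- **Tower Theorem, steps 4–6**, with `z` as produced by `step_two`. -/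
theorem tower_final' {k : Type*} [Field k] [IsAlgClosed k] {Γ : Type*} [Group Γ] [Finite Γ]
    {W : Type*} [AddCommGroup W] [Module k W] [Module.Finite k W] (ρ : Representation k Γ W)
    (s : Γ) (n : ℕ) (hn : 1 ≤ n) (hs : s ^ (2 ^ n) = 1) (hfix : ∀ w : W, ρ s w = w → w = 0)
    (q q' : ℕ) (hq : q.Prime) (hq' : q'.Prime) (hq2 : q ≠ 2) (hq'2 : q' ≠ 2) (hqq' : q ≠ q')
    (h2k : ((2 : ℕ) : k) ≠ 0) (hqk : (q : k) ≠ 0)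
    (Qm Z Q₀ Q' : Subgroup Γ) (hQm : IsPGroup q Qm) (hQ' : IsPGroup q' Q')
    (hsQm : ∀ g ∈ Qm, s * g * s⁻¹ ∈ Qm) (hsQ' : ∀ h ∈ Q', s * h * s⁻¹ ∈ Q')
    (hQ'Qm : ∀ h ∈ Q', ∀ g ∈ Qm, h * g * h⁻¹ ∈ Qm) (hfaith : ∀ g ∈ Qm, ρ g = 1 → g = 1)
    (hZ : ∀ c, c ∈ Z ↔ c ∈ Qm ∧ ∀ w ∈ Qm, c * w = w * c)
    (hcomm : ∀ g ∈ Qm, ∀ h ∈ Qm, g * h * g⁻¹ * h⁻¹ ∈ Z)
    (htZ : ∀ a ∈ Z, s ^ (2 ^ (n - 1)) * a = a * s ^ (2 ^ (n - 1)))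
    (hQ'Z : ∀ h ∈ Q', ∀ a ∈ Z, h * a = a * h)
    (hQ₀Qm : Q₀ ≤ Qm)
    (hQ₀mem : ∀ g ∈ Qm, s ^ (2 ^ (n - 1)) * g * (s ^ (2 ^ (n - 1)))⁻¹ * g⁻¹ ∈ Q₀)
    (hQ₀gen : Q₀ ≤ Subgroup.closure
      {y | ∃ g ∈ Qm, y = s ^ (2 ^ (n - 1)) * g * (s ^ (2 ^ (n - 1)))⁻¹ * g⁻¹})
    (hCQ₀ : ∀ c ∈ Q₀, s ^ (2 ^ (n - 1)) * c = c * s ^ (2 ^ (n - 1)) → ∀ g ∈ Q₀, c * g = g * c)
    (hCQm : ∀ c ∈ Qm, s ^ (2 ^ (n - 1)) * c = c * s ^ (2 ^ (n - 1)) → ∀ g ∈ Q₀, c * g = g * c)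
    (hdec : ∀ g ∈ Qm, ∃ c ∈ Qm, s ^ (2 ^ (n - 1)) * c = c * s ^ (2 ^ (n - 1)) ∧
      ∃ g₀ ∈ Q₀, g = c * g₀)
    (hQ'gen : Q' ≤ Subgroup.closure
      {y | ∃ h ∈ Q', y = s ^ (2 ^ (n - 1)) * h * (s ^ (2 ^ (n - 1)))⁻¹ * h⁻¹})
    (z : Γ) (hzQ' : z ∈ Q') (hzt : s ^ (2 ^ (n - 1)) * z = z * s ^ (2 ^ (n - 1)))
    (hzc : ∀ g ∈ Q', ∀ v ∈ Qm,
      (g * z * g⁻¹ * z⁻¹) * v * (g * z * g⁻¹ * z⁻¹)⁻¹ * v⁻¹ ∈ Z) :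
    ∀ g ∈ Qm, z * g * z⁻¹ * g⁻¹ ∈ Z := by
  have hZQm : Z ≤ Qm := fun c hc => ((hZ c).1 hc).1
  have hZc : ∀ a ∈ Z, ∀ g ∈ Qm, a * g = g * a := fun a ha g hg => ((hZ a).1 ha).2 g hg
  have hZall : ∀ g ∈ Qm, (∀ h ∈ Qm, g * h = h * g) → g ∈ Z :=
    fun g hg h => (hZ g).2 ⟨hg, h⟩
  refine tower_final ρ s n hn hs hfix q q' hq hq' hq2 hq'2 hqq' h2k hqk Qm Z Q₀ Q' hQm hQ' hsQm
    hsQ' hQ'Qm hfaith hZQm hZc hZall hcomm htZ hQ'Z hQ₀Qm hQ₀mem hQ₀gen hCQ₀ hCQm hdec hQ'gen z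
    hzQ' hzt ?_
  intro h hh g hg
  have hmem : h * z * h⁻¹ * z⁻¹ ∈ Q' :=
    Q'.mul_mem (Q'.mul_mem (Q'.mul_mem hh hzQ') (Q'.inv_mem hh)) (Q'.inv_mem hzQ')
  have h1 := centralizes_of_mod hq hq' hqq' Qm Z Q' hQm hQ' hZQm hQ'Z (h * z * h⁻¹ * z⁻¹) hmem
    (hzc h hh) g hg
  have e : z * h * z⁻¹ * h⁻¹ = (h * z * h⁻¹ * z⁻¹)⁻¹ := by group
  rw [e]
  -- the inverse commutes as well
  have h2 : (h * z * h⁻¹ * z⁻¹)⁻¹ * g = g * (h * z * h⁻¹ * z⁻¹)⁻¹ := by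
    rw [inv_mul_eq_iff_eq_mul, ← mul_assoc, h1, mul_assoc, mul_inv_cancel, mul_one]
  exact h2

end Cfsg.Agent.Helper9.Gross2
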